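import Mathlib

/-!
An operator of prime order `q` acting irreducibly on a space over `ZMod p`: the dimension is the
order of `p` modulo `q`, and the operators normalizing it induce powers of `p`.
-/

set_option autoImplicit false
set_option linter.style.haveILetI false

namespace CfsgLib.ExtPrim

open Polynomial

variable {p q : ℕ} [hp : Fact p.Prime] [hq : Fact q.Prime] {V : Type*} [AddCommGroup V]
  [Module (ZMod p) V] [Finite V] [Nontrivial V]

theorem irreducible_minpoly (t : Module.End (ZMod p) V)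
    (hirr : ∀ W : Submodule (ZMod p) V, (∀ w ∈ W, t w ∈ W) → W = ⊥ ∨ W = ⊤) :
    Irreducible (minpoly (ZMod p) t) := by
  haveI : Module.Finite (ZMod p) V := Module.Finite.of_finite
  have hint : IsIntegral (ZMod p) t := IsIntegral.of_finite _ t
  have hne1 : minpoly (ZMod p) t ≠ 1 := minpoly.ne_one _ _
  refine (Polynomial.Monic.irreducible_iff_natDegree (minpoly.monic hint)).mpr ⟨hne1, fun g h hg hh e => ?_⟩
  have hW : ∀ w ∈ LinearMap.ker (aeval t g), t w ∈ LinearMap.ker (aeval t g) := by
    intro w hw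
    rw [LinearMap.mem_ker] at hw ⊢
    have hc : aeval t g * t = t * aeval t g := by
      have := congrArg (aeval t) (mul_comm g (X : (ZMod p)[X]))
      rwa [map_mul, map_mul, aeval_X] at this
    rw [← Module.End.mul_apply, hc, Module.End.mul_apply, hw, map_zero]
  have key : ∀ g h : (ZMod p)[X], g.Monic → h.Monic → g * h = minpoly (ZMod p) t →
      aeval t g = 0 → h.natDegree = 0 := by
    intro g h hg hh e h0
    have hd := Polynomial.natDegree_le_of_dvd (minpoly.dvd _ t h0) hg.ne_zero
    rw [← e, hg.natDegree_mul hh] at hd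
    omega
  rcases hirr _ hW with e0 | e0
  · left
    refine key h g hh hg (mul_comm g h ▸ e) ?_
    apply LinearMap.ext
    intro v
    have h2 : aeval t g (aeval t h v) = 0 := by
      rw [← Module.End.mul_apply, ← map_mul, e, minpoly.aeval, LinearMap.zero_apply]
    have h3 : aeval t h v ∈ LinearMap.ker (aeval t g) := h2
    rw [e0, Submodule.mem_bot] at h3
    exact h3
  · exact Or.inr (key g h hg hh e (LinearMap.ker_eq_top.mp e0))

/-- The order of `p` modulo `q` is the dimension, and intertwiners induce powers of `p`. -/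
theorem irreducible_prime_order {d : ℕ} (hcard : Nat.card V = p ^ d) (t : Module.End (ZMod p) V)
    (htq : t ^ q = 1) (hne : t ≠ 1)
    (hirr : ∀ W : Submodule (ZMod p) V, (∀ w ∈ W, t w ∈ W) → W = ⊥ ∨ W = ⊤) :
    (∀ i : ℕ, 0 < i → i < d → ¬ q ∣ p ^ i - 1) ∧
      ∀ (a : ℕ) (s : Module.End (ZMod p) V), Function.Surjective s → s * t = t ^ a * s →
        ∃ i : ℕ, a ≡ p ^ i [MOD q] := by
  haveI : Module.Finite (ZMod p) V := Module.Finite.of_finite
  have hint : IsIntegral (ZMod p) t := IsIntegral.of_finite _ t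
  have hirrf := irreducible_minpoly t hirr
  generalize hf : minpoly (ZMod p) t = f at hirrf
  haveI := Fact.mk hirrf
  have hfne : f ≠ 0 := hirrf.ne_zero
  have hroot : aeval t f = 0 := hf ▸ minpoly.aeval _ _
  haveI : Module.Finite (ZMod p) (AdjoinRoot f) :=
    Module.Finite.of_basis (AdjoinRoot.powerBasis hfne).basis
  haveI : Finite (AdjoinRoot f) := Module.finite_of_finite (ZMod p)
  have hlq : AdjoinRoot.root f ^ q = 1 := by
    have hd : f ∣ X ^ q - 1 := hf ▸ minpoly.dvd _ t (by simp [htq])
    have h0 : AdjoinRoot.mk f (X ^ q - 1) = 0 := AdjoinRoot.mk_eq_zero.mpr hd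
    rwa [map_sub, map_pow, map_one, AdjoinRoot.mk_X, sub_eq_zero] at h0
  have hl1 : AdjoinRoot.root f ≠ 1 := by
    intro e
    have h0 : AdjoinRoot.mk f (X - 1) = 0 := by rw [map_sub, AdjoinRoot.mk_X, map_one, e, sub_self]
    have hd : f ∣ X - 1 := AdjoinRoot.mk_eq_zero.mp h0
    have h1 : aeval t (X - 1 : (ZMod p)[X]) = 0 :=
      aeval_eq_zero_of_dvd_aeval_eq_zero hd hroot
    simp [sub_eq_zero] at h1
    exact hne h1
  have hord : orderOf (AdjoinRoot.root f) = q := orderOf_eq_prime hlq hl1
  -- the field is at least as large as the space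
  obtain ⟨v, hv⟩ := exists_ne (0 : V)
  let ψ : AdjoinRoot f →ₐ[ZMod p] Module.End (ZMod p) V :=
    Ideal.Quotient.liftₐ _ (aeval t) (fun g hg => by
      rw [Ideal.mem_span_singleton] at hg
      exact aeval_eq_zero_of_dvd_aeval_eq_zero hg hroot)
  have hψ : ψ (AdjoinRoot.root f) = t := aeval_X t
  let ev : AdjoinRoot f →ₗ[ZMod p] V := (LinearMap.applyₗ v).comp ψ.toLinearMap
  have hsurj : Function.Surjective ev := by
    rw [← LinearMap.range_eq_top]
    refine (hirr _ ?_).resolve_left ?_
    · rintro w ⟨x, rfl⟩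
      refine ⟨AdjoinRoot.root f * x, ?_⟩
      show ψ (AdjoinRoot.root f * x) v = t (ψ x v)
      rw [map_mul, hψ, Module.End.mul_apply]
    · intro e
      have hmem : v ∈ LinearMap.range ev := ⟨1, by
        show ψ 1 v = v
        rw [map_one, Module.End.one_apply]⟩
      rw [e, Submodule.mem_bot] at hmem
      exact hv hmem
  have hle : p ^ d ≤ Nat.card (AdjoinRoot f) := hcard ▸ Nat.card_le_card_of_surjective ev hsurj
  refine ⟨fun i hi hid hdvd => ?_, fun a s hs hst => ?_⟩
  · have h1 : AdjoinRoot.root f ^ p ^ i = AdjoinRoot.root f := by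
      obtain ⟨m, hm⟩ := hdvd
      have h2 : p ^ i = q * m + 1 := by
        have := Nat.one_le_pow i p hp.out.pos
        omega
      rw [h2, pow_succ, pow_mul, hlq, one_pow, one_mul]
    have hfix : ∀ x : AdjoinRoot f, x ^ p ^ i = x := by
      have hhom : (FiniteField.frobeniusAlgHom (ZMod p) (AdjoinRoot f)) ^ i =
          AlgHom.id (ZMod p) (AdjoinRoot f) := AdjoinRoot.algHom_ext (by
        rw [AlgHom.coe_pow, FiniteField.coe_frobeniusAlgHom, pow_iterate, AlgHom.id_apply,
          ZMod.card]
        exact h1)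
      intro x
      have := DFunLike.congr_fun hhom x
      rwa [AlgHom.coe_pow, FiniteField.coe_frobeniusAlgHom, pow_iterate, AlgHom.id_apply,
        ZMod.card] at this
    haveI := Fintype.ofFinite (AdjoinRoot f)
    have hpi : 1 < p ^ i := Nat.one_lt_pow hi.ne' hp.out.one_lt
    have hsub : (Finset.univ : Finset (AdjoinRoot f)).card ≤ p ^ i := by
      have hle' := Polynomial.card_le_degree_of_subset_roots
        (p := (X : (AdjoinRoot f)[X]) ^ (p ^ i) - X) (Z := Finset.univ) (fun x _ => by
          rw [mem_roots (FiniteField.X_pow_card_sub_X_ne_zero _ hpi), IsRoot, eval_sub, eval_pow,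
            eval_X, hfix, sub_self])
      rwa [FiniteField.X_pow_card_sub_X_natDegree_eq _ hpi] at hle'
    rw [Finset.card_univ, ← Nat.card_eq_fintype_card] at hsub
    have : p ^ i < p ^ d := Nat.pow_lt_pow_right hp.out.one_lt hid
    omega
  have hta : aeval (t ^ a) f = 0 := by
    have hsemi : ∀ g : (ZMod p)[X], s * aeval t g = aeval (t ^ a) g * s := by
      intro g
      induction g using Polynomial.induction_on' with
      | add g h hg hh => rw [map_add, map_add, mul_add, add_mul, hg, hh]
      | monomial n c =>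
        rw [aeval_monomial, aeval_monomial, ← mul_assoc, ← Algebra.commutes, mul_assoc, mul_assoc]
        congr 1
        exact (SemiconjBy.pow_right (show SemiconjBy s t (t ^ a) from hst) n).eq
    have h0 := hsemi f
    rw [hroot, mul_zero] at h0
    apply LinearMap.ext
    intro w
    obtain ⟨u, rfl⟩ := hs w
    rw [← Module.End.mul_apply, ← h0]
    rfl
  have hla : aeval (AdjoinRoot.root f ^ a) f = 0 := by
    have hd : f ∣ f.comp (X ^ a) :=
      hf ▸ minpoly.dvd _ t (by rw [aeval_comp, map_pow, aeval_X]; exact hf ▸ hta)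
    have h0 : aeval (AdjoinRoot.root f) (f.comp (X ^ a)) = 0 := by
      rw [AdjoinRoot.aeval_eq]
      exact AdjoinRoot.mk_eq_zero.mpr hd
    rwa [aeval_comp, map_pow, aeval_X] at h0
  let σ : AdjoinRoot f →ₐ[ZMod p] AdjoinRoot f :=
    AdjoinRoot.liftAlgHom f (Algebra.ofId _ _) (AdjoinRoot.root f ^ a) hla
  obtain ⟨i, hi⟩ := (FiniteField.bijective_frobeniusAlgHom_pow (ZMod p) (AdjoinRoot f)).2 σ
  refine ⟨i.1, ?_⟩
  have h1 := DFunLike.congr_fun hi (AdjoinRoot.root f)
  rw [AlgHom.coe_pow, FiniteField.coe_frobeniusAlgHom, pow_iterate, ZMod.card] at h1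
  have h1' : AdjoinRoot.root f ^ p ^ i.1 = AdjoinRoot.root f ^ a :=
    h1.trans (AdjoinRoot.liftAlgHom_root _ _ _ hla)
  have h2 := (isOfFinOrder_iff_pow_eq_one.mpr ⟨q, hq.out.pos, hlq⟩).pow_eq_pow_iff_modEq.mp h1'.symm
  rwa [hord] at h2

end CfsgLib.ExtPrim
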