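import Cfsg.Agent.Lib.MinNormal.SimpleConjugates
import Cfsg.Agent.Lib.OddOrder.Solvable

/-!
# Extremely primitive groups are affine or almost simple

An elementary argument: if a minimal normal subgroup is not simple with trivial centralizer, then
either some suborbit has a stabilizer that is not maximal (an element inverted by the action of an
involution gives an intermediate subgroup), or the point stabilizer has a second fixed point.
-/

set_option autoImplicit false
set_option linter.style.haveILetI false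
set_option linter.unusedSectionVars false

namespace CfsgLib.ExtPrim

open MulAction Pointwise CfsgLib.MinNormal

variable {G : Type*} [Group G] [Finite G]

theorem exists_noncommuting_involutions {T : Subgroup G} (hs : IsSimpleGroup T)
    (hna : ¬ IsMulCommutative T) :
    ∃ s ∈ T, ∃ u ∈ T, s * s = 1 ∧ u * u = 1 ∧ s * u ≠ u * s := by
  haveI := hs
  by_contra hcon
  push_neg at hcon
  have heven : 2 ∣ Nat.card T := by
    by_contra h2
    haveI : Group.IsSolvable T :=
      CfsgLib.OddOrder.odd_order_solvable (Nat.odd_iff.mpr (by omega))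
    exact hna ⟨⟨fun a b => IsSimpleGroup.comm_iff_isSolvable.mpr inferInstance a b⟩⟩
  haveI := Fact.mk Nat.prime_two
  obtain ⟨z, hz⟩ := exists_prime_orderOf_dvd_card' 2 heven
  let S : Set T := {a | a * a = 1}
  haveI hn : (Subgroup.closure S).Normal := by
    refine ⟨fun a ha g => ?_⟩
    have h1 : (Subgroup.closure S).map (MulAut.conj g).toMonoidHom ≤ Subgroup.closure S := by
      rw [MonoidHom.map_closure, Subgroup.closure_le]
      rintro _ ⟨b, hb, rfl⟩
      refine Subgroup.subset_closure ?_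
      show (g * b * g⁻¹) * (g * b * g⁻¹) = 1
      rw [show (g * b * g⁻¹) * (g * b * g⁻¹) = g * (b * b) * g⁻¹ by group, hb]
      group
    exact h1 ⟨a, ha, rfl⟩
  have htop : Subgroup.closure S = ⊤ := by
    refine hn.eq_bot_or_eq_top.resolve_left fun e => ?_
    have h1 : z ∈ Subgroup.closure S := Subgroup.subset_closure (by
      show z * z = 1
      rw [← sq, ← hz]; exact pow_orderOf_eq_one z)
    rw [e, Subgroup.mem_bot] at h1
    rw [h1, orderOf_one] at hz
    omega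
  refine hna ⟨⟨fun a b => ?_⟩⟩
  have hc : Subgroup.closure S ≤ Subgroup.centralizer S := by
    rw [Subgroup.closure_le]
    intro a ha b hb
    exact Subtype.ext (hcon b.1 b.2 a.1 a.2 (congrArg Subtype.val hb) (congrArg Subtype.val ha))
  have h1 : a ∈ Subgroup.centralizer (Subgroup.closure S : Set T) := by
    rw [Subgroup.centralizer_closure]; exact hc (htop ▸ Subgroup.mem_top a)
  exact (Subgroup.mem_centralizer_iff.mp h1 b (htop ▸ Subgroup.mem_top b)).symm

variable {Ω : Type*} [MulAction G Ω] {α : Ω}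

theorem smul_eq_iff_mem_stab {x y : G} : x • α = y • α ↔ y⁻¹ * x ∈ stabilizer G α := by
  rw [mem_stabilizer_iff, mul_smul, inv_smul_eq_iff]

theorem stab_smul_conj {h x : G} (hh : h ∈ stabilizer G α) :
    h • (x • α) = (h * x * h⁻¹) • α := by
  have : h⁻¹ • α = α := (stabilizer G α).inv_mem hh
  rw [mul_smul, mul_smul, this]

/-- The point stabilizer acts primitively on each of its orbits. -/
structure Ext (α : Ω) : Prop where
  max : ∀ x : G, x ∉ stabilizer G α → ∀ K : Subgroup G, K ≤ stabilizer G α →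
    (∀ h ∈ stabilizer G α, h • (x • α) = x • α → h ∈ K) →
      K = stabilizer G α ∨ ∀ k ∈ K, k • (x • α) = x • α
  fix : ∀ x : G, (∀ h ∈ stabilizer G α, h • (x • α) = x • α) → x ∈ stabilizer G α
  core : ∀ D : Subgroup G, D.Normal → D ≤ stabilizer G α → D = ⊥
  coatom : IsCoatom (stabilizer G α)

/-- No simple subgroup meeting the stabilizer trivially has all its inner automorphisms induced
by the stabilizer. -/
theorem Ext.diagonal_false (e : Ext (G := G) α) {T : Subgroup G} (hs : IsSimpleGroup T)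
    (hna : ¬ IsMulCommutative T) (hT : T ⊓ stabilizer G α = ⊥)
    (hind : ∀ x ∈ T, ∃ h ∈ stabilizer G α, ∀ y ∈ T, h * y * h⁻¹ = x * y * x⁻¹)
    (hcomm : ∀ h ∈ stabilizer G α, ∀ t ∈ T, h * t * h⁻¹ ∈ T ∨ Commute (h * t * h⁻¹) t) :
    False := by
  set H := stabilizer G α with hH
  obtain ⟨s, hsT, u, huT, hs2, hu2, hne⟩ := exists_noncommuting_involutions hs hna
  set t := s * u with ht
  have htT : t ∈ T := mul_mem hsT huT
  have hsi : s⁻¹ = s := inv_eq_of_mul_eq_one_right hs2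
  have hui : u⁻¹ = u := inv_eq_of_mul_eq_one_right hu2
  have hti : t⁻¹ = u * s := by rw [ht, mul_inv_rev, hsi, hui]
  have hst : s * t * s⁻¹ = t⁻¹ := by
    rw [hti, hsi, ht, ← mul_assoc, hs2, one_mul]
  have htne : t ≠ t⁻¹ := by rw [hti]; exact hne
  have heq : ∀ a ∈ T, ∀ b ∈ T, a • α = b • α → a = b := fun a ha b hb h => by
    have h1 : b⁻¹ * a ∈ T ⊓ H := Subgroup.mem_inf.mpr ⟨mul_mem (inv_mem hb) ha, smul_eq_iff_mem_stab.mp h⟩
    rw [hT, Subgroup.mem_bot] at h1
    exact (inv_mul_eq_one.mp h1).symm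
  set β := t • α
  set β' := t⁻¹ • α
  have hbb : β ≠ β' := fun h => htne (heq _ htT _ (inv_mem htT) h)
  have hbH : t ∉ H := fun h => hne (by
    have h1 : t ∈ T ⊓ H := ⟨htT, h⟩
    rw [hT, Subgroup.mem_bot] at h1
    exact absurd (by rw [h1, inv_one] : t = t⁻¹) htne)
  set K : Subgroup G := stabilizer G ({β, β'} : Set Ω) ⊓ H
  have hKfix : ∀ h ∈ H, h • β = β → h ∈ K := by
    intro h hh hhb
    have hb' : h • β' = β' := by
      rw [stab_smul_conj hh] at hhb
      rw [stab_smul_conj hh, show h * t⁻¹ * h⁻¹ = (h * t * h⁻¹)⁻¹ by group]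
      rcases hcomm h hh t htT with hx | hx
      · rw [heq _ hx _ htT hhb]
      · rw [smul_eq_iff_mem_stab] at hhb ⊢
        have h1 := H.inv_mem hhb
        rw [mul_inv_rev, inv_inv] at h1
        rw [inv_inv, show t * (h * t * h⁻¹)⁻¹ = (h * t * h⁻¹)⁻¹ * t from
          ((hx.inv_left).eq).symm]
        exact h1
    refine ⟨mem_stabilizer_iff.mpr ?_, hh⟩
    rw [Set.smul_set_insert, Set.smul_set_singleton, hhb, hb']
  have hswap : ∀ h ∈ H, (∀ y ∈ T, h * y * h⁻¹ = s * y * s⁻¹) → h • β = β' ∧ h • β' = β := by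
    intro h hh hy
    constructor
    · rw [stab_smul_conj hh, hy t htT, hst]
    · rw [stab_smul_conj hh, hy _ (inv_mem htT),
        show s * t⁻¹ * s⁻¹ = (s * t * s⁻¹)⁻¹ by group, hst, inv_inv]
  obtain ⟨n, hn, hny⟩ := hind s hsT
  obtain ⟨hn1, hn2⟩ := hswap n hn hny
  have hnK : n ∈ K := by
    refine ⟨mem_stabilizer_iff.mpr ?_, hn⟩
    rw [Set.smul_set_insert, Set.smul_set_singleton, hn1, hn2, Set.pair_comm]
  have hK : K = H := (e.max t hbH K inf_le_right hKfix).resolve_right fun h =>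
    hbb ((h n hnK).symm.trans hn1)
  have hconj : ∀ y ∈ T, y * t * y⁻¹ = t ∨ y * t * y⁻¹ = t⁻¹ := by
    intro y hy
    obtain ⟨h, hh, hhy⟩ := hind y hy
    have h1 : h ∈ K := hK ▸ hh
    have h2 : h • β ∈ ({β, β'} : Set Ω) := by
      have h3 := mem_stabilizer_iff.mp h1.1
      rw [← h3]; exact Set.smul_mem_smul_set (Set.mem_insert _ _)
    rw [stab_smul_conj hh, hhy t htT] at h2
    rcases h2 with h2 | h2
    · exact .inl (heq _ (mul_mem (mul_mem hy htT) (inv_mem hy)) _ htT h2)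
    · exact .inr (heq _ (mul_mem (mul_mem hy htT) (inv_mem hy)) _ (inv_mem htT) h2)
  haveI := hs
  haveI hzn : (Subgroup.zpowers (⟨t, htT⟩ : T)).Normal := by
    refine ⟨fun a ha g => ?_⟩
    obtain ⟨i, rfl⟩ := Subgroup.mem_zpowers_iff.mp ha
    rw [← conj_zpow]
    refine zpow_mem ?_ i
    rcases hconj g.1 g.2 with h | h
    · rw [show g * ⟨t, htT⟩ * g⁻¹ = ⟨t, htT⟩ from Subtype.ext h]
      exact Subgroup.mem_zpowers _
    · rw [show g * ⟨t, htT⟩ * g⁻¹ = (⟨t, htT⟩)⁻¹ from Subtype.ext h]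
      exact inv_mem (Subgroup.mem_zpowers _)
  rcases hzn.eq_bot_or_eq_top with h | h
  · rw [Subgroup.zpowers_eq_bot] at h
    exact htne (by rw [show t = 1 from congrArg Subtype.val h, inv_one])
  · exact hna ⟨⟨fun a b => by
      obtain ⟨i, rfl⟩ := Subgroup.mem_zpowers_iff.mp (h ▸ Subgroup.mem_top a)
      obtain ⟨j, rfl⟩ := Subgroup.mem_zpowers_iff.mp (h ▸ Subgroup.mem_top b)
      exact zpow_mul_comm _ i j⟩⟩

theorem Ext.sup_eq_top (e : Ext (G := G) α) {D : Subgroup G} (hD : D.Normal) (h0 : D ≠ ⊥) :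
    D ⊔ stabilizer G α = ⊤ :=
  (e.coatom.le_iff.mp le_sup_right).resolve_right fun h =>
    h0 (e.core D hD (le_sup_left.trans h.le))

theorem Ext.exists_mul (e : Ext (G := G) α) {D : Subgroup G} (hD : D.Normal) (h0 : D ≠ ⊥)
    (g : G) : ∃ d ∈ D, ∃ h ∈ stabilizer G α, d * h = g := by
  haveI := hD
  exact Subgroup.mem_sup_of_normal_left.mp
    (by rw [e.sup_eq_top hD h0]; exact Subgroup.mem_top g)

/-- If the normal subgroup `D` centralizes the normal subgroup `M`, then `M` meets the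
stabilizer trivially. -/
theorem Ext.inf_eq_bot (e : Ext (G := G) α) {D M : Subgroup G} (hD : D.Normal) (h0 : D ≠ ⊥)
    (hM : M.Normal) (hc : ∀ d ∈ D, ∀ m ∈ M, d * m = m * d) : M ⊓ stabilizer G α = ⊥ := by
  refine e.core _ ⟨fun m hm g => ?_⟩ inf_le_right
  obtain ⟨d, hd, h, hh, rfl⟩ := e.exists_mul hD h0 g
  have h1 : h * m * h⁻¹ ∈ M ⊓ stabilizer G α :=
    Subgroup.mem_inf.mpr ⟨hM.conj_mem m hm.1 h, mul_mem (mul_mem hh hm.2) (inv_mem hh)⟩
  rw [show d * h * m * (d * h)⁻¹ = d * (h * m * h⁻¹) * d⁻¹ by group, hc d hd _ h1.1,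
    mul_inv_cancel_right]
  exact h1

/-- Extremely primitive: affine or almost simple. -/
theorem Ext.affine_or_almostSimple (e : Ext (G := G) α) (hG : Nontrivial G) :
    (∃ N : Subgroup G, N.Normal ∧ N ≠ ⊥ ∧ IsMulCommutative N ∧ N ⊓ stabilizer G α = ⊥) ∨
      (∃ T : Subgroup G, T.Normal ∧ IsSimpleGroup T ∧ ¬ IsMulCommutative T ∧
        Subgroup.centralizer (T : Set G) = ⊥) := by
  classical
  haveI : Finite (Subgroup G) := Finite.of_injective (fun K => (K : Set G)) SetLike.coe_injective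
  set H := stabilizer G α with hH
  obtain ⟨N, -, ⟨hNn, hN0⟩, hNmin⟩ :=
    (Set.toFinite {R : Subgroup G | R.Normal ∧ R ≠ ⊥}).exists_le_minimal
      (show (⊤ : Subgroup G) ∈ _ from ⟨inferInstance, top_ne_bot⟩)
  haveI := hNn
  have hmin : ∀ R : Subgroup G, R.Normal → R ≠ ⊥ → R ≤ N → R = N := fun R h1 h2 h3 =>
    le_antisymm h3 (hNmin ⟨h1, h2⟩ h3)
  by_cases hab : IsMulCommutative N
  · exact .inl ⟨N, hNn, hN0, hab, e.inf_eq_bot hNn hN0 hNn fun a ha b hb =>
      congrArg Subtype.val (hab.is_comm.comm ⟨a, ha⟩ ⟨b, hb⟩)⟩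
  right
  obtain ⟨T, d⟩ := exists_simpleConjugates hmin hab
  have hTN : T ≤ N := d.le
  have hcomm : ∀ h ∈ H, ∀ t ∈ T, h * t * h⁻¹ ∈ T ∨ Commute (h * t * h⁻¹) t := by
    intro h _ t ht
    rcases eq_or_ne (cj T h) (cj T 1) with he | he
    · refine .inl ?_
      have h1 : h * t * h⁻¹ ∈ cj T h := conj_mem_cj ht
      rwa [he, cj_one] at h1
    · exact .inr (d.comm h 1 he _ (conj_mem_cj ht) t (by rw [cj_one]; exact ht))
  -- the centralizer of `N` is trivial
  have hZ : Subgroup.centralizer (N : Set G) = ⊥ := by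
    by_contra hZ0
    have hZn : (Subgroup.centralizer (N : Set G)).Normal := inferInstance
    have hNH : N ⊓ H = ⊥ := e.inf_eq_bot hZn hZ0 hNn fun z hz m hm =>
      (Subgroup.mem_centralizer_iff.mp hz m hm).symm
    refine e.diagonal_false d.simple d.nab
      (le_bot_iff.mp ((inf_le_inf_right _ hTN).trans hNH.le)) (fun x hx => ?_) hcomm
    obtain ⟨z, hz, h, hh, hzh⟩ := e.exists_mul hZn hZ0 x
    refine ⟨h, hh, fun y hy => ?_⟩
    have h1 : h * y * h⁻¹ ∈ N := hNn.conj_mem y (hTN hy) h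
    rw [← hzh, show z * h * y * (z * h)⁻¹ = z * (h * y * h⁻¹) * z⁻¹ by group,
      ← Subgroup.mem_centralizer_iff.mp hz _ h1, mul_inv_cancel_right]
  refine ⟨T, ?_⟩
  by_cases hTe : T = N
  · subst hTe
    exact ⟨hNn, d.simple, d.nab, hZ⟩
  exfalso
  have hcjT : ∀ m ∈ N, cj T m = T := by
    intro m hm
    have h := d.norm 1 hm
    rw [cj_one, Subgroup.mem_normalizer_iff] at h
    ext x
    rw [mem_cj, h, show m * (m⁻¹ * x * m) * m⁻¹ = x by group]
  have hcjH : ∀ g, ∃ h ∈ H, cj T g = cj T h := by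
    intro g
    obtain ⟨m, hm, h, hh, rfl⟩ := e.exists_mul hNn hN0 g
    refine ⟨h, hh, ?_⟩
    have hm' : h⁻¹ * m * h ∈ N := by simpa using hNn.conj_mem m hm h⁻¹
    rw [show m * h = h * (h⁻¹ * m * h) by group, ← cj_mul, hcjT _ hm']
  have hNnle : ¬ N ≤ H := fun h => hN0 (e.core N hNn h)
  have hTH : ¬ T ≤ H := by
    intro h
    refine hNnle (d.sup.symm.le.trans (iSup_le fun g => ?_))
    obtain ⟨k, hk, he⟩ := hcjH g
    rw [he]
    intro x hx
    have h1 := mul_mem (mul_mem hk (h (mem_cj.mp hx))) (inv_mem hk)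
    rwa [show k * (k⁻¹ * x * k) * k⁻¹ = x by group] at h1
  set C := Subgroup.centralizer (T : Set G) with hC
  haveI := d.simple
  -- a subgroup of `T` normalized by `T` inside the stabilizer is trivial
  have hTinf : (∀ x ∈ T, ∀ y ∈ T ⊓ H, x * y * x⁻¹ ∈ H) → T ⊓ H = ⊥ := by
    intro hx
    haveI : ((T ⊓ H).subgroupOf T).Normal := ⟨fun a ha g => by
      rw [Subgroup.mem_subgroupOf] at ha ⊢
      exact ⟨(g * a * g⁻¹).2, hx _ g.2 _ ha⟩⟩
    rcases (inferInstance : ((T ⊓ H).subgroupOf T).Normal).eq_bot_or_eq_top with h | h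
    · rw [Subgroup.subgroupOf_eq_bot, disjoint_iff] at h
      rwa [inf_eq_left.mpr (inf_le_left : T ⊓ H ≤ T)] at h
    · exact absurd ((Subgroup.subgroupOf_eq_top.mp h).trans inf_le_right) hTH
  by_cases hA : ∀ x ∈ T, ∃ n ∈ N ⊓ H, ∀ y ∈ T, n * y * n⁻¹ = x * y * x⁻¹
  · refine e.diagonal_false d.simple d.nab (hTinf fun x hx y hy => ?_)
      (fun x hx => ?_) hcomm
    · obtain ⟨n, hn, hny⟩ := hA x hx
      rw [← hny y hy.1]
      exact mul_mem (mul_mem hn.2 hy.2) (inv_mem hn.2)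
    · obtain ⟨n, hn, hny⟩ := hA x hx
      exact ⟨n, hn.2, hny⟩
  -- proper projection
  have hCN : (C ⊓ N).map (MulAut.conj (1 : G)).toMonoidHom ≤ C ⊓ N := by
    rintro _ ⟨x, hx, rfl⟩; simpa using hx
  set S : Subgroup G := (N ⊓ H) ⊔ (C ⊓ N) with hS
  have hnorm : N ⊓ H ≤ Subgroup.normalizer ((C ⊓ N : Subgroup G) : Set G) := by
    intro n hn
    refine Subgroup.inf_normalizer_le_normalizer_inf ⟨?_, ?_⟩
    · have h1 : n ∈ Subgroup.normalizer (T : Set G) := by simpa [cj_one] using d.norm 1 hn.1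
      refine Subgroup.mem_normalizer_iff.mpr fun c => ?_
      constructor
      · intro hc
        refine Subgroup.mem_centralizer_iff.mpr fun x hx => ?_
        have hx' : n⁻¹ * x * n ∈ T := (Subgroup.mem_normalizer_iff''.mp h1 x).mp hx
        calc x * (n * c * n⁻¹) = n * (n⁻¹ * x * n * c) * n⁻¹ := by group
          _ = n * (c * (n⁻¹ * x * n)) * n⁻¹ := by rw [Subgroup.mem_centralizer_iff.mp hc _ hx']
          _ = n * c * n⁻¹ * x := by group
      · intro hc
        refine Subgroup.mem_centralizer_iff.mpr fun x hx => ?_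
        have hx' : n * x * n⁻¹ ∈ T := (Subgroup.mem_normalizer_iff.mp h1 x).mp hx
        calc x * c = n⁻¹ * (n * x * n⁻¹ * (n * c * n⁻¹)) * n := by group
          _ = n⁻¹ * (n * c * n⁻¹ * (n * x * n⁻¹)) * n := by rw [Subgroup.mem_centralizer_iff.mp hc _ hx']
          _ = c * x := by group
    · exact Subgroup.le_normalizer hn.1
  have hSmem : ∀ {y}, y ∈ S ↔ ∃ n ∈ N ⊓ H, ∃ c ∈ C ⊓ N, n * c = y := by
    intro y
    rw [← SetLike.mem_coe, hS, Subgroup.coe_mul_of_left_le_normalizer_right _ _ hnorm]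
    exact Iff.rfl
  have hSN : S ≤ N := sup_le inf_le_left inf_le_right
  -- the intersection of the conjugates of `S`
  let D : Subgroup G :=
    { carrier := {y | ∀ h ∈ H, h * y * h⁻¹ ∈ S}
      mul_mem' := fun {a b} ha hb h hh => by
        rw [show h * (a * b) * h⁻¹ = (h * a * h⁻¹) * (h * b * h⁻¹) by group]
        exact mul_mem (ha h hh) (hb h hh)
      one_mem' := fun h _ => by rw [mul_one, mul_inv_cancel]; exact one_mem S
      inv_mem' := fun {a} ha h hh => by
        rw [show h * a⁻¹ * h⁻¹ = (h * a * h⁻¹)⁻¹ by group]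
        exact inv_mem (ha h hh) }
  have hDN : D ≤ N := fun y hy => by
    have h1 := hSN (hy 1 (one_mem H))
    rwa [one_mul, inv_one, mul_one] at h1
  have hDinv : H ≤ Subgroup.normalizer (D : Set G) := by
    intro k hk
    rw [Subgroup.mem_normalizer_iff]
    intro y
    refine ⟨fun hy h hh => ?_, fun hy h hh => ?_⟩
    · rw [show h * (k * y * k⁻¹) * h⁻¹ = (h * k) * y * (h * k)⁻¹ by group]
      exact hy _ (mul_mem hh hk)
    · have h1 := hy (h * k⁻¹) (mul_mem hh (inv_mem hk))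
      rwa [show h * k⁻¹ * (k * y * k⁻¹) * (h * k⁻¹)⁻¹ = h * y * h⁻¹ by group] at h1
  have hNHD : N ⊓ H ≤ D := fun y hy h hh => Subgroup.mem_sup_left
    (Subgroup.mem_inf.mpr ⟨hNn.conj_mem y hy.1 h, mul_mem (mul_mem hh hy.2) (inv_mem hh)⟩)
  have hDH : D ≤ H := by
    rcases e.coatom.le_iff.mp (le_sup_right : H ≤ D ⊔ H) with h | h
    · exfalso
      apply hA
      intro x hx
      have h1 : x ∈ D := by
        have h2 : x ∈ ((D ⊔ H : Subgroup G) : Set G) := by rw [h]; trivial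
        rw [Subgroup.coe_mul_of_right_le_normalizer_left _ _ hDinv] at h2
        obtain ⟨a, ha, b, hb, hab'⟩ := h2
        have hbN : b ∈ N := by
          rw [show b = a⁻¹ * x by rw [← hab']; simp]
          exact mul_mem (inv_mem (hDN ha)) (hTN hx)
        rw [← hab']
        exact mul_mem ha (hNHD ⟨hbN, hb⟩)
      have h3 := h1 1 (one_mem H)
      rw [one_mul, inv_one, mul_one] at h3
      obtain ⟨n, hn, c, hc, rfl⟩ := hSmem.mp h3
      refine ⟨n, hn, fun y hy => ?_⟩
      rw [show n * c * y * (n * c)⁻¹ = n * (c * y * c⁻¹) * n⁻¹ by group,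
        ← Subgroup.mem_centralizer_iff.mp hc.1 y hy, mul_inv_cancel_right]
    · exact le_sup_left.trans h.le
  have hcjC : ∀ g, cj T g ≠ T → cj T g ≤ C := fun g hg =>
    by
    have h1 := d.le_centralizer (g := 1) (h := g) (fun h => hg (by rw [← h, cj_one]))
    rwa [cj_one] at h1
  have hTS : ∀ y ∈ T, y ∈ S → y ∈ H := by
    intro y hyT hyS
    refine hDH fun h hh => ?_
    by_cases he : cj T h = T
    · obtain ⟨n, hn, c, hc, rfl⟩ := hSmem.mp hyS
      refine hSmem.mpr ⟨h * n * h⁻¹, Subgroup.mem_inf.mpr ⟨hNn.conj_mem n hn.1 h,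
        mul_mem (mul_mem hh hn.2) (inv_mem hh)⟩, h * c * h⁻¹, ⟨?_, hNn.conj_mem c hc.2 h⟩, by group⟩
      refine Subgroup.mem_centralizer_iff.mpr fun x hx => ?_
      have hx' : h⁻¹ * x * h ∈ T := mem_cj.mp (he.symm ▸ hx)
      calc x * (h * c * h⁻¹) = h * (h⁻¹ * x * h * c) * h⁻¹ := by group
        _ = h * (c * (h⁻¹ * x * h)) * h⁻¹ := by rw [Subgroup.mem_centralizer_iff.mp hc.1 _ hx']
        _ = h * c * h⁻¹ * x := by group
    · exact Subgroup.mem_sup_right ⟨hcjC h he (conj_mem_cj hyT), d.cj_le h (conj_mem_cj hyT)⟩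
  -- stabilizer of the factor
  let H1 : Subgroup G :=
    { carrier := {h | h ∈ H ∧ cj T h = T}
      mul_mem' := fun {a b} ha hb => ⟨mul_mem ha.1 hb.1, by rw [← cj_mul, hb.2, ha.2]⟩
      one_mem' := ⟨one_mem H, cj_one T⟩
      inv_mem' := fun {a} ha => ⟨inv_mem ha.1, by
        conv_lhs => rw [← ha.2]
        rw [cj_mul, inv_mul_cancel, cj_one]⟩ }
  have hH1 : H1 ≠ H := by
    intro h
    refine hTe (hmin T ⟨fun x hx g => ?_⟩ (cj_one T ▸ d.ne_bot 1) hTN)
    obtain ⟨k, hk, he⟩ := hcjH g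
    have hk' : k ∈ H1 := h.symm ▸ hk
    rw [← (he.trans hk'.2)]
    exact conj_mem_cj hx
  have hfix : ∀ t ∈ T, t ∉ H → ∀ k ∈ H1, k • (t • α) = t • α := by
    intro t htT htH
    refine (e.max t htH H1 (fun k hk => hk.1) fun h hh hb => ⟨hh, ?_⟩).resolve_left hH1
    by_contra he
    rw [stab_smul_conj hh, smul_eq_iff_mem_stab] at hb
    have h1 : t⁻¹ * (h * t * h⁻¹) ∈ N ⊓ H :=
      Subgroup.mem_inf.mpr ⟨mul_mem (inv_mem (hTN htT)) (hNn.conj_mem t (hTN htT) h), hb⟩
    have h2 : t⁻¹ ∈ S := hSmem.mpr ⟨_, h1, (h * t * h⁻¹)⁻¹,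
      inv_mem ⟨hcjC h he (conj_mem_cj htT), d.cj_le h (conj_mem_cj htT)⟩, by group⟩
    exact htH (hTS t htT (by simpa using inv_mem h2))
  have hNH1 : N ⊓ H ≤ H1 := fun n hn => ⟨hn.2, hcjT n hn.1⟩
  have hTH0 : T ⊓ H = ⊥ := hTinf fun x hx y hy => by
    by_cases hxH : x ∈ H
    · exact mul_mem (mul_mem hxH hy.2) (inv_mem hxH)
    · have h1 := hfix x⁻¹ (inv_mem hx) (fun h => hxH (by simpa using inv_mem h)) y
        (hNH1 ⟨hTN hy.1, hy.2⟩)
      rw [← mul_smul, smul_eq_iff_mem_stab, inv_inv] at h1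
      rwa [mul_assoc]
  have hNH0 : N ⊓ H = ⊥ := by
    rw [Subgroup.eq_bot_iff_forall]
    intro n hn
    have hnC : ∀ k ∈ N ⊓ H, k ∈ C := by
      intro k hk
      obtain ⟨a, ha, c, hc, hac⟩ := d.decomp 1 hk.1
      rw [cj_one] at ha hc
      have hcN : c ∈ N := by
        rw [show c = a⁻¹ * k by rw [← hac]; simp]
        exact mul_mem (inv_mem (hTN ha)) hk.1
      have haS : a ∈ S := hSmem.mpr ⟨k, hk, c⁻¹, inv_mem ⟨hc, hcN⟩, by rw [← hac]; simp⟩
      have h1 : a ∈ T ⊓ H := ⟨ha, hTS a ha haS⟩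
      rw [hTH0, Subgroup.mem_bot] at h1
      rw [← hac, h1, one_mul]
      exact hc
    have h1 : N ≤ Subgroup.centralizer ({n} : Set G) := by
      rw [← d.sup]
      refine iSup_le fun g x hx => Subgroup.mem_centralizer_singleton_iff.mpr ?_
      obtain ⟨k, hk, he⟩ := hcjH g
      rw [he, mem_cj] at hx
      have hk' : k⁻¹ * n * k ∈ N ⊓ H := Subgroup.mem_inf.mpr ⟨by simpa using hNn.conj_mem n hn.1 k⁻¹,
        mul_mem (mul_mem (inv_mem hk) hn.2) hk⟩
      have h2 := Subgroup.mem_centralizer_iff.mp (hnC _ hk') _ hx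
      calc x * n = k * (k⁻¹ * x * k * (k⁻¹ * n * k)) * k⁻¹ := by group
        _ = k * (k⁻¹ * n * k * (k⁻¹ * x * k)) * k⁻¹ := by rw [h2]
        _ = n * x := by group
    have h2 : n ∈ Subgroup.centralizer (N : Set G) := Subgroup.mem_centralizer_iff.mpr fun x hx =>
      Subgroup.mem_centralizer_singleton_iff.mp (h1 hx)
    rwa [hZ, Subgroup.mem_bot] at h2
  -- twisted wreath: the stabilizer has a second fixed point
  obtain ⟨t, htT, ht1⟩ : ∃ t ∈ T, t ≠ 1 := by
    by_contra h; push_neg at h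
    exact d.ne_bot 1 (by rw [cj_one, Subgroup.eq_bot_iff_forall]; exact h)
  have htH : t ∉ H := fun h => ht1 (by
    rw [← Subgroup.mem_bot, ← hTH0]; exact ⟨htT, h⟩)
  have hcen : ∀ k ∈ H1, k * t * k⁻¹ = t := by
    intro k hk
    have h1 := hfix t htT htH k hk
    rw [stab_smul_conj hk.1, smul_eq_iff_mem_stab] at h1
    have h2 : t⁻¹ * (k * t * k⁻¹) ∈ N ⊓ H :=
      Subgroup.mem_inf.mpr ⟨mul_mem (inv_mem (hTN htT)) (hNn.conj_mem t (hTN htT) k), h1⟩
    rw [hNH0, Subgroup.mem_bot] at h2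
    exact (inv_mul_eq_one.mp h2).symm
  haveI : Fintype G := Fintype.ofFinite G
  let X : Finset G := (Finset.univ.filter (fun h => h ∈ H)).image (fun h => h * t * h⁻¹)
  have hXmem : ∀ {x}, x ∈ X ↔ ∃ h ∈ H, h * t * h⁻¹ = x := by simp [X]
  have hXT : ∀ x ∈ X, x = t ∨ x ∈ C := by
    intro x hx
    obtain ⟨h, hh, rfl⟩ := hXmem.mp hx
    by_cases he : cj T h = T
    · exact .inl (hcen h ⟨hh, he⟩)
    · exact .inr (hcjC h he (conj_mem_cj htT))
  have hcm : (X : Set G).Pairwise Commute := by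
    intro x hx y hy hxy
    obtain ⟨a, ha, rfl⟩ := hXmem.mp hx
    obtain ⟨b, hb, rfl⟩ := hXmem.mp hy
    refine d.comm a b (fun he => hxy ?_) _ (conj_mem_cj htT) _ (conj_mem_cj htT)
    have h1 : a⁻¹ * b ∈ H1 := ⟨mul_mem (inv_mem ha) hb, by
      rw [← cj_mul, ← he, cj_mul, inv_mul_cancel, cj_one]⟩
    calc a * t * a⁻¹ = a * (a⁻¹ * b * t * (a⁻¹ * b)⁻¹) * a⁻¹ := by rw [hcen _ h1]
      _ = _ := by group
  set x := X.noncommProd id hcm with hxdef
  have hxfix : ∀ h ∈ H, h * x * h⁻¹ = x := by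
    intro h hh
    have himg : X.image (MulAut.conj h) = X := by
      refine Finset.eq_of_subset_of_card_le (fun y hy => ?_) ?_
      · obtain ⟨z, hz, rfl⟩ := Finset.mem_image.mp hy
        obtain ⟨a, ha, rfl⟩ := hXmem.mp hz
        exact hXmem.mpr ⟨h * a, mul_mem hh ha, by simp [mul_assoc]⟩
      · rw [Finset.card_image_of_injective _ (MulAut.conj h).injective]
    have h1 := Finset.map_noncommProd X id hcm (MulAut.conj h).toMonoidHom
    rw [show h * x * h⁻¹ = (MulAut.conj h).toMonoidHom x from rfl, hxdef, h1]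
    have hval : X.val.map (MulAut.conj h) = X.val := by
      rw [← Finset.image_val_of_injOn (MulAut.conj h).injective.injOn, himg]
    unfold Finset.noncommProd
    congr 1
    simpa [Function.comp_def, show ⇑(MulAut.conj h) = fun i => h * i * h⁻¹ from rfl] using hval
  have hxN : x ∈ N := Subgroup.noncommProd_mem _ hcm fun y hy => by
    obtain ⟨a, -, rfl⟩ := hXmem.mp hy
    exact d.cj_le a (conj_mem_cj htT)
  have hxH : x ∈ H := e.fix x fun h hh => by rw [stab_smul_conj hh, hxfix h hh]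
  have hx1 : x = 1 := by
    rw [← Subgroup.mem_bot, ← hNH0]; exact ⟨hxN, hxH⟩
  have htX : t ∈ X := hXmem.mpr ⟨1, one_mem H, by simp⟩
  rw [hxdef, ← Finset.mul_noncommProd_erase X htX id hcm] at hx1
  refine ht1 (d.eq_one (g := 1) (by rw [cj_one]; exact htT) ?_)
  rw [cj_one, show t = ((X.erase t).noncommProd id
    (hcm.mono (Finset.coe_subset.mpr (Finset.erase_subset t X))))⁻¹ from eq_inv_of_mul_eq_one_left hx1]
  refine inv_mem (Subgroup.noncommProd_mem _ _ fun y hy => ?_)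
  exact (hXT y (Finset.mem_of_mem_erase hy)).resolve_left (Finset.ne_of_mem_erase hy)

end CfsgLib.ExtPrim
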