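import Cfsg.Agent.Lib.ExtPrim.Basic
import Cfsg.Agent.Lib.ExtPrim.AlmostSimple
import Cfsg.Agent.Lib.OddOrder.Solvable
import Cfsg.Agent.S0035

/-!
# Insoluble linear groups with maximal, core-free vector stabilizers

If every stabilizer of a non-trivial vector is a core-free maximal subgroup of the insoluble
group `H`, then the characteristic is two and the socle of `H` is nonabelian simple with trivial
centralizer.

The socle argument: if the socle has two simple factors `A`, `B`, take a vector `d` with the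
largest intersection `R` of its stabilizer with the factors and `e = d * (a s) • d`; then the
intersections for `e` are `R ⊓ R ^ a` in `A` and `R ⊓ R ^ s` in `B` and have equal orders, which
forces `R` to be a Frobenius complement in `A`.
-/

set_option autoImplicit false
set_option linter.style.haveILetI false
set_option linter.unusedSectionVars false

namespace CfsgLib.ExtPrim

open MulAction CfsgLib.MinNormal
open scoped commutatorElement Pointwise

section

variable {H V : Type*} [Group H] [CommGroup V] [MulDistribMulAction H V]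

/-- A faithful action on a nontrivial elementary abelian group in which the stabilizers of the
non-trivial vectors are maximal and core-free, by an insoluble group. -/
structure AffEP (H V : Type*) [Group H] [CommGroup V] [MulDistribMulAction H V] (p : ℕ) : Prop where
  prime : p.Prime
  exp : ∀ v : V, v ^ p = 1
  nontriv : Nontrivial V
  faithful : ∀ h : H, (∀ v : V, h • v = v) → h = 1
  cfm : ∀ w : V, w ≠ 1 → CoreFreeMax (stabilizer H w)
  insol : ¬ Group.IsSolvable H

variable [Finite H] [Finite V] {p : ℕ}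

/-- A noncyclic group of exponent `q` cannot act without fixed points. -/
theorem pow_eq_one_of_free_pair {q : ℕ} (hq : q.Prime) {a b : H} (hab : Commute a b)
    (ha : a ^ q = 1) (hb : b ^ q = 1)
    (hfree : ∀ i j : ℕ, i < q → j < q → (i ≠ 0 ∨ j ≠ 0) → ∀ v : V, (a ^ i * b ^ j) • v = v → v = 1)
    (v : V) : v ^ q = 1 := by
  have horbit : ∀ x : H, x ^ q = 1 → ∀ u : V,
      x • (∏ i ∈ Finset.range q, x ^ i • u) = ∏ i ∈ Finset.range q, x ^ i • u := by
    intro x hx u
    rw [Finset.smul_prod']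
    have h1 := Finset.prod_range_succ' (fun i => x ^ i • u) q
    have h2 := Finset.prod_range_succ (fun i => x ^ i • u) q
    rw [hx, one_smul] at h2
    rw [pow_zero, one_smul, h2] at h1
    rw [mul_right_cancel h1]
    exact Finset.prod_congr rfl fun i _ => by rw [smul_smul, ← pow_succ']
  have hb' : ∀ i : ℕ, 0 < i → i < q → ∀ u : V, ∏ j ∈ Finset.range q, (b ^ i) ^ j • u = 1 := by
    intro i hi0 hiq u
    have hx : (b ^ i) ^ q = 1 := by rw [← pow_mul, mul_comm, pow_mul, hb, one_pow]
    refine hfree 0 i hq.pos hiq (.inr hi0.ne') _ ?_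
    rw [pow_zero, one_mul]
    exact horbit _ hx u
  have hline : ∀ j < q, ∏ i ∈ Finset.range q, (a * b ^ j) ^ i • v = 1 := by
    intro j hj
    have hx : (a * b ^ j) ^ q = 1 := by
      rw [(hab.pow_right j).mul_pow, ha, ← pow_mul, mul_comm, pow_mul, hb, one_pow, one_mul]
    refine hfree 1 j hq.one_lt hj (.inl one_ne_zero) _ ?_
    rw [pow_one]
    exact horbit _ hx v
  have htot : ∏ j ∈ Finset.range q, ∏ i ∈ Finset.range q, (a * b ^ j) ^ i • v = 1 :=
    Finset.prod_eq_one fun j hj => hline j (Finset.mem_range.mp hj)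
  rw [Finset.prod_comm, Finset.prod_eq_single 0 (fun i hi hi0 => ?_)
    (fun h => absurd (Finset.mem_range.mpr hq.pos) h)] at htot
  · simpa using htot
  · calc ∏ j ∈ Finset.range q, (a * b ^ j) ^ i • v
        = a ^ i • ∏ j ∈ Finset.range q, (b ^ i) ^ j • v := by
          rw [Finset.smul_prod']
          refine Finset.prod_congr rfl fun j _ => ?_
          rw [(hab.pow_right j).mul_pow, smul_smul, ← pow_mul, ← pow_mul, mul_comm i j]
      _ = 1 := by rw [hb' i (Nat.pos_of_ne_zero hi0) (Finset.mem_range.mp hi) v, smul_one]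

theorem AffEP.false_of_abelian_prime (e : AffEP H V p) {A : Subgroup H} (hAn : A.Normal)
    [IsMulCommutative A] (hA : A ≠ ⊥) {q : ℕ} (hq : q.Prime) (hexp : ∀ a ∈ A, a ^ q = 1) :
    False := by
  haveI := hAn
  haveI := e.nontriv
  haveI := Fact.mk e.prime
  haveI := Fact.mk hq
  obtain ⟨w₀, hw₀⟩ := exists_ne (1 : V)
  have hfree : ∀ w : V, w ≠ 1 → ∀ a ∈ A, a • w = w → a = 1 := by
    intro w hw a ha hfix
    rw [← Subgroup.mem_bot, ← (e.cfm w hw).abelian_inf hAn hA]
    exact Subgroup.mem_inf.mpr ⟨ha, hfix⟩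
  -- `q ≠ p`
  have hqp : q ≠ p := by
    rintro rfl
    have hAp : IsPGroup q A := fun a => ⟨1, Subtype.ext (by simpa using hexp a a.2)⟩
    have hdvd : q ∣ Nat.card V := by
      rw [← orderOf_eq_prime (e.exp w₀) hw₀]; exact orderOf_dvd_natCard w₀
    obtain ⟨b, hb, hb1⟩ := hAp.exists_fixed_point_of_prime_dvd_card_of_fixed_point (α := V) hdvd
      (a := 1) (fun g => smul_one g)
    obtain ⟨a, ha, ha1⟩ := (Subgroup.bot_or_exists_ne_one A).resolve_left hA
    exact ha1 (hfree b (Ne.symm hb1) a ha (hb ⟨a, ha⟩))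
  obtain ⟨a, ha, ha1⟩ := (Subgroup.bot_or_exists_ne_one A).resolve_left hA
  have hcyc : IsCyclic A := by
    refine ⟨⟨⟨a, ha⟩, fun b => ?_⟩⟩
    by_contra hb
    have hcom : Commute a (b : H) := congrArg Subtype.val (mul_comm' (⟨a, ha⟩ : A) b)
    have hpair := pow_eq_one_of_free_pair (V := V) hq hcom (hexp a ha) (hexp b b.2)
      (fun i j hi hj hij v hv => by
        by_contra hv1
        have h1 := hfree v hv1 _ (mul_mem (pow_mem ha i) (pow_mem b.2 j)) hv
        rcases Nat.eq_zero_or_pos j with rfl | hj0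
        · rw [pow_zero, mul_one] at h1
          have hoa : orderOf a = q := orderOf_eq_prime (hexp a ha) ha1
          have h2 : q ∣ i := by rw [← hoa]; exact orderOf_dvd_of_pow_eq_one h1
          have h3 := Nat.eq_zero_of_dvd_of_lt h2 hi
          exact hij.elim (fun h => h h3) (fun h => h rfl)
        · refine hb ?_
          have hb0 : b ≠ 1 := fun hb0 => hb (hb0 ▸ ⟨0, zpow_zero _⟩)
          have hob : orderOf b = q := orderOf_eq_prime (Subtype.ext (by simpa using hexp b b.2)) hb0
          have hnd : ¬ q ∣ j := fun h => absurd (Nat.le_of_dvd hj0 h) (by omega)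
          have hcop : Nat.Coprime j (orderOf b) := by
            rw [hob]; exact ((hq.coprime_iff_not_dvd).mpr hnd).symm
          obtain ⟨m, hm⟩ := exists_pow_eq_self_of_coprime hcop
          rw [← hm]
          refine pow_mem (Subgroup.mem_zpowers_iff.mpr ⟨-(i : ℤ), Subtype.ext ?_⟩) m
          push_cast
          rw [zpow_neg, zpow_natCast]
          exact (eq_inv_of_mul_eq_one_right h1).symm) w₀
    have h4 : orderOf w₀ = p := orderOf_eq_prime (e.exp w₀) hw₀
    exact hqp ((Nat.prime_dvd_prime_iff_eq e.prime hq).mp (h4 ▸ orderOf_dvd_of_pow_eq_one hpair)).symm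
  apply e.insol
  haveI : IsMulCommutative (MulAut A) := ⟨⟨fun x y =>
    (IsCyclic.mulAutMulEquiv A).injective (by rw [map_mul, map_mul, mul_comm])⟩⟩
  haveI : Group.IsSolvable (MulAut A) := Group.isSolvable_of_comm fun x y => mul_comm' x y
  haveI : Group.IsSolvable A := Group.isSolvable_of_comm fun x y => mul_comm' x y
  refine Group.isSolvable_of_ker_le_range A.subtype (MulAut.conjNormal (H := A)) fun h hh => ?_
  rw [Subgroup.range_subtype, ← (e.cfm w₀ hw₀).centralizer_eq hAn hA]
  refine Subgroup.mem_centralizer_iff.mpr fun x hx => ?_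
  have h1 : h * x * h⁻¹ = x := by
    have := congrArg (fun f : MulAut A => (f ⟨x, hx⟩ : H)) (MonoidHom.mem_ker.mp hh)
    simpa using this
  exact (mul_inv_eq_iff_eq_mul.mp h1).symm

/-- There is no nontrivial abelian normal subgroup. -/
theorem AffEP.abelian_eq_bot (e : AffEP H V p) {A : Subgroup H} (hAn : A.Normal)
    [IsMulCommutative A] : A = ⊥ := by
  by_contra hA
  haveI : Nontrivial A := (Subgroup.nontrivial_iff_ne_bot A).mpr hA
  obtain ⟨q, hq, hqd⟩ := Nat.exists_prime_and_dvd (Finite.one_lt_card (α := A)).ne'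
  haveI := Fact.mk hq
  obtain ⟨⟨x, hx⟩, hox⟩ := exists_prime_orderOf_dvd_card' q hqd
  let B : Subgroup H :=
    { carrier := {a | a ∈ A ∧ a ^ q = 1}
      one_mem' := ⟨one_mem A, one_pow q⟩
      mul_mem' := fun {a b} ha hb => ⟨mul_mem ha.1 hb.1, by
        rw [Commute.mul_pow (congrArg Subtype.val (mul_comm' (⟨a, ha.1⟩ : A) ⟨b, hb.1⟩)), ha.2,
          hb.2, one_mul]⟩
      inv_mem' := fun {a} ha => ⟨inv_mem ha.1, by rw [inv_pow, ha.2, inv_one]⟩ }
  haveI : IsMulCommutative B := ⟨⟨fun a b => Subtype.ext (by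
    exact congrArg (fun z : A => (z : H)) (mul_comm' (⟨a.1, a.2.1⟩ : A) ⟨b.1, b.2.1⟩))⟩⟩
  refine e.false_of_abelian_prime (A := B) ⟨fun a ha g => ⟨hAn.conj_mem a ha.1 g, ?_⟩⟩ ?_ hq
    fun a ha => ha.2
  · rw [conj_pow, ha.2, mul_one, mul_inv_cancel]
  · intro hB
    rw [Subgroup.orderOf_mk] at hox
    have h1 : x ∈ B := ⟨hx, by rw [← hox, pow_orderOf_eq_one]⟩
    rw [hB, Subgroup.mem_bot] at h1
    rw [h1, orderOf_one] at hox
    exact hq.ne_one hox.symm

theorem AffEP.exists_involution (e : AffEP H V p) {D : Subgroup H} (hD : D.Normal)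
    (h0 : D ≠ ⊥) : ∃ t ∈ D, orderOf t = 2 := by
  haveI := Fact.mk Nat.prime_two
  by_cases h2 : 2 ∣ Nat.card D
  · obtain ⟨t, ht⟩ := exists_prime_orderOf_dvd_card' 2 h2
    exact ⟨t, t.2, by rwa [Subgroup.orderOf_coe]⟩
  exfalso
  haveI : Group.IsSolvable D :=
    CfsgLib.OddOrder.odd_order_solvable (Nat.odd_iff.mpr (by omega))
  obtain ⟨n, hn⟩ := (Group.isSolvable_def D).mp inferInstance
  have hDn : ∀ k, ((derivedSeries D k).map D.subtype).Normal := fun k => by
    haveI := hD
    exact ConjAct.normal_of_characteristic_of_normal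
  induction n with
  | zero =>
    rw [derivedSeries_zero] at hn
    haveI : Nontrivial D := (Subgroup.nontrivial_iff_ne_bot D).mpr h0
    exact (top_ne_bot : (⊤ : Subgroup D) ≠ ⊥) hn
  | succ k ih =>
    refine ih ?_
    haveI : IsMulCommutative ((derivedSeries D k).map D.subtype) := by
      refine ⟨⟨fun ⟨a, a', ha, ea⟩ ⟨b, b', hb, eb⟩ => Subtype.ext ?_⟩⟩
      show a * b = b * a
      have h1 : ⁅a', b'⁆ = 1 := by
        rw [← Subgroup.mem_bot, ← hn, derivedSeries_succ]
        exact Subgroup.commutator_mem_commutator ha hb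
      rw [← ea, ← eb, ← map_mul, ← map_mul, commutatorElement_eq_one_iff_mul_comm.mp h1]
    exact (Subgroup.map_eq_bot_iff_of_injective _ D.subtype_injective).mp
      (e.abelian_eq_bot (hDn k))

/-- The characteristic is two. -/
theorem AffEP.p_eq_two (e : AffEP H V p) : p = 2 := by
  haveI := e.nontriv
  by_contra hp2
  have htop : (⊤ : Subgroup H) ≠ ⊥ := fun h => e.insol
    (Group.isSolvable_of_comm fun a b => by
      rw [Subgroup.mem_bot.mp (h ▸ Subgroup.mem_top a : a ∈ (⊥ : Subgroup H)),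
        Subgroup.mem_bot.mp (h ▸ Subgroup.mem_top b : b ∈ (⊥ : Subgroup H))])
  obtain ⟨t, -, ht⟩ := e.exists_involution inferInstance htop
  have htt : t * t = 1 := by rw [← sq, ← ht, pow_orderOf_eq_one]
  obtain ⟨v, hv⟩ : ∃ v : V, t • v ≠ v := by
    by_contra hall
    push_neg at hall
    rw [e.faithful t hall, orderOf_one] at ht
    omega
  set w := t • v / v with hw
  have hw1 : w ≠ 1 := fun h => hv (div_eq_one.mp h)
  have htw : t • w = w⁻¹ := by
    rw [hw, smul_div', smul_smul, htt, one_smul, inv_div]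
  have hinv : t⁻¹ = t := inv_eq_of_mul_eq_one_right htt
  have hnot : t ∉ stabilizer H w := by
    rw [mem_stabilizer_iff, htw]
    intro h
    have h2 : w ^ 2 = 1 := by
      rw [sq]
      exact mul_eq_one_iff_eq_inv.mpr h.symm
    haveI := Fact.mk e.prime
    have h3 := orderOf_eq_prime (e.exp w) hw1
    have h4 : p ∣ 2 := h3 ▸ orderOf_dvd_of_pow_eq_one h2
    exact hp2 ((Nat.prime_dvd_prime_iff_eq e.prime Nat.prime_two).mp h4)
  have hnorm : t ∈ Subgroup.normalizer (stabilizer H w : Set H) := by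
    have key : ∀ x ∈ stabilizer H w, t * x * t⁻¹ ∈ stabilizer H w := by
      intro x hx
      have hx' : x • w⁻¹ = w⁻¹ := by rw [smul_inv', mem_stabilizer_iff.mp hx]
      rw [hinv, mem_stabilizer_iff, mul_smul, mul_smul, htw, hx', smul_inv', htw, inv_inv]
    rw [Subgroup.mem_normalizer_iff]
    refine fun x => ⟨key x, fun hx => ?_⟩
    have := key _ hx
    rwa [hinv, show t * (t * x * t) * t = (t * t) * x * (t * t) by group, htt, one_mul, mul_one]
      at this
  have hc := e.cfm w hw1
  have hN : (stabilizer H w).Normal := by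
    rw [← Subgroup.normalizer_eq_top_iff]
    exact (hc.coatom.le_iff.mp Subgroup.le_normalizer).resolve_right fun h => hnot (h ▸ hnorm)
  have hbot : stabilizer H w = ⊥ := hc.core _ hN le_rfl
  have hz : Subgroup.zpowers t = ⊤ := by
    refine hc.coatom.2 _ ?_
    rw [hbot, bot_lt_iff_ne_bot, Ne, Subgroup.zpowers_eq_bot]
    rintro rfl
    rw [orderOf_one] at ht
    omega
  exact e.insol (Group.isSolvable_of_comm fun a b => by
    obtain ⟨i, rfl⟩ := Subgroup.mem_zpowers_iff.mp (show a ∈ Subgroup.zpowers t by rw [hz]; exact Subgroup.mem_top _)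
    obtain ⟨j, rfl⟩ := Subgroup.mem_zpowers_iff.mp (show b ∈ Subgroup.zpowers t by rw [hz]; exact Subgroup.mem_top _)
    exact zpow_mul_comm t i j)

theorem AffEP.exists_fixed (e : AffEP H V p) {t : H} (ht : orderOf t = 2) :
    ∃ w : V, w ≠ 1 ∧ t • w = w := by
  have h2 : ∀ v : V, v * v = 1 := fun v => by
    have := e.exp v
    rwa [e.p_eq_two, sq] at this
  obtain ⟨v, hv⟩ : ∃ v : V, t • v ≠ v := by
    by_contra hall
    push_neg at hall
    rw [e.faithful t hall, orderOf_one] at ht
    omega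
  refine ⟨v * t • v, fun h => hv (mul_left_cancel (h.trans (h2 v).symm)), ?_⟩
  rw [smul_mul', smul_smul, ← sq, ← ht, pow_orderOf_eq_one, one_smul, mul_comm]

/-- A nontrivial normal subgroup has trivial centralizer. -/
theorem AffEP.centralizer_eq_bot (e : AffEP H V p) {D : Subgroup H} (hD : D.Normal)
    (h0 : D ≠ ⊥) : Subgroup.centralizer (D : Set H) = ⊥ := by
  haveI := hD
  by_contra hC
  obtain ⟨t, htD, ht⟩ := e.exists_involution hD h0
  obtain ⟨w, hw, htw⟩ := e.exists_fixed ht
  have hc := e.cfm w hw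
  have hCn : (Subgroup.centralizer (D : Set H)).Normal := inferInstance
  have hn : (D ⊓ stabilizer H w).Normal := by
    refine ⟨fun x hx g => ?_⟩
    have hg : g ∈ Subgroup.centralizer (D : Set H) ⊔ stabilizer H w := by
      rw [hc.sup_eq_top hCn hC]; exact Subgroup.mem_top g
    obtain ⟨c, hc', k, hk, rfl⟩ := Subgroup.mem_sup_of_normal_left.mp hg
    have h1 : k * x * k⁻¹ ∈ D ⊓ stabilizer H w := Subgroup.mem_inf.mpr
      ⟨hD.conj_mem x hx.1 k, mul_mem (mul_mem hk hx.2) (inv_mem hk)⟩
    rw [show c * k * x * (c * k)⁻¹ = c * (k * x * k⁻¹) * c⁻¹ by group,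
      ← Subgroup.mem_centralizer_iff.mp hc' _ h1.1, mul_inv_cancel_right]
    exact h1
  have h1 : t ∈ D ⊓ stabilizer H w := Subgroup.mem_inf.mpr ⟨htD, htw⟩
  rw [hc.core _ hn inf_le_right, Subgroup.mem_bot] at h1
  rw [h1, orderOf_one] at ht
  omega

variable {M T : Subgroup H}

/-- Intersections of a vector stabilizer with a factor are self-normalizing in the factor. -/
theorem AffEP.self_normalizing (e : AffEP H V p) (d : SimpleConjugates M T) {w : V} (hw : w ≠ 1)
    {g : H} (h0 : cj T g ⊓ stabilizer H w ≠ ⊥) {x : H} (hx : x ∈ cj T g)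
    (hn : ∀ y ∈ cj T g ⊓ stabilizer H w, x * y * x⁻¹ ∈ cj T g ⊓ stabilizer H w) : x • w = w := by
  have hc := e.cfm w hw
  set X : Subgroup H := ⨆ k, cj T k ⊓ stabilizer H w with hX
  have hXle : X ≤ stabilizer H w := iSup_le fun k => inf_le_right
  let Y : Subgroup H :=
    { carrier := {h | ∀ y ∈ X, h * y * h⁻¹ ∈ X}
      one_mem' := fun y hy => by simpa using hy
      mul_mem' := fun {a b} ha hb y hy => by
        rw [show a * b * y * (a * b)⁻¹ = a * (b * y * b⁻¹) * a⁻¹ by group]
        exact ha _ (hb y hy)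
      inv_mem' := fun {a} ha y hy => by
        have hinj : Function.Injective fun z : X => (⟨a * z * a⁻¹, ha z z.2⟩ : X) := fun z z' h =>
          Subtype.ext (mul_left_cancel (mul_right_cancel (congrArg Subtype.val h)))
        have hbij := Finite.injective_iff_surjective.mp hinj
        obtain ⟨z, hz⟩ := hbij ⟨y, hy⟩
        rw [← show a * z * a⁻¹ = y from congrArg Subtype.val hz,
          show a⁻¹ * (a * (z : H) * a⁻¹) * a⁻¹⁻¹ = z by group]
        exact z.2 }
  have hconj : ∀ h : H, (∀ k, ∀ y ∈ cj T k ⊓ stabilizer H w, h * y * h⁻¹ ∈ X) → h ∈ Y := by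
    intro h hh y hy
    have hle : X ≤ X.comap (MulAut.conj h).toMonoidHom := iSup_le fun k z hz => hh k z hz
    exact hle hy
  have hY1 : stabilizer H w ≤ Y := by
    intro m hm
    refine hconj m fun k y hy => Subgroup.mem_iSup_of_mem (m * k) (Subgroup.mem_inf.mpr ⟨?_, ?_⟩)
    · rw [← cj_mul]; exact conj_mem_cj hy.1
    · exact mul_mem (mul_mem hm hy.2) (inv_mem hm)
  have hxY : x ∈ Y := by
    refine hconj x fun k y hy => ?_
    rcases eq_or_ne (cj T g) (cj T k) with he | he
    · refine Subgroup.mem_iSup_of_mem g (hn y ?_)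
      rw [he]; exact hy
    · rw [d.comm g k he x hx y hy.1, mul_inv_cancel_right]
      exact Subgroup.mem_iSup_of_mem k hy
  rcases hc.coatom.le_iff.mp hY1 with h | h
  · exfalso
    refine h0 (le_bot_iff.mp (le_of_le_of_eq (le_iSup (fun k => cj T k ⊓ stabilizer H w) g) ?_))
    exact hc.core X ⟨fun y hy k => (h.symm ▸ Subgroup.mem_top k : k ∈ Y) y hy⟩ hXle
  · exact (h ▸ hxY : x ∈ stabilizer H w)

/-- The intersections of a vector stabilizer with the factors all have the same order. -/
theorem AffEP.card_inf_eq (e : AffEP H V p) (d : SimpleConjugates M T) {w : V} (hw : w ≠ 1)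
    (g : H) :
    Nat.card (cj T g ⊓ stabilizer H w : Subgroup H) = Nat.card (T ⊓ stabilizer H w : Subgroup H) := by
  haveI := d.normal
  have hM0 : M ≠ ⊥ := fun h => d.ne_bot 1 (le_bot_iff.mp (h ▸ d.cj_le 1))
  have hg : g ∈ M ⊔ stabilizer H w := by
    rw [(e.cfm w hw).sup_eq_top d.normal hM0]; exact Subgroup.mem_top g
  obtain ⟨m, hm, k, hk, rfl⟩ := Subgroup.mem_sup_of_normal_left.mp hg
  have hcj : cj T (m * k) = cj T k := by
    rw [← cj_mul]
    ext y
    rw [mem_cj]
    have h1 := Subgroup.mem_normalizer_iff''.mp (d.norm k hm) y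
    exact h1.symm
  rw [hcj]
  have hmap : cj T k ⊓ stabilizer H w = (T ⊓ stabilizer H w).map (MulAut.conj k).toMonoidHom := by
    rw [Subgroup.map_inf_eq _ _ _ (MulAut.conj k).injective]
    refine congrArg (cj T k ⊓ ·) ?_
    ext y
    show y ∈ stabilizer H w ↔ y ∈ cj (stabilizer H w) k
    rw [mem_cj]
    constructor
    · intro hy; exact mul_mem (mul_mem (inv_mem hk) hy) hk
    · intro hy
      have := mul_mem (mul_mem hk hy) (inv_mem hk)
      rwa [show k * (k⁻¹ * y * k) * k⁻¹ = y by group] at this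
  rw [hmap]
  exact Subgroup.card_map_of_injective (MulAut.conj k).injective

/-- Two factors `A`, `B` and a vector with maximal intersections. -/
theorem AffEP.inter_of_translate (e : AffEP H V p) (d : SimpleConjugates M T) {v : V} (hv : v ≠ 1)
    (hmax : ∀ u : V, u ≠ 1 →
      Nat.card (T ⊓ stabilizer H u : Subgroup H) ≤ Nat.card (T ⊓ stabilizer H v : Subgroup H))
    {g k : H} (hgk : cj T g ≠ cj T k) (h0 : cj T k ⊓ stabilizer H v ≠ ⊥)
    {a s : H} (ha : a ∈ cj T g) (hs : s ∈ cj T k) (hs' : s • v ≠ v) {x : H} :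
    x ∈ cj T g ⊓ stabilizer H (v * (a * s) • v) ↔
      x ∈ cj T g ∧ x • v = v ∧ (a⁻¹ * x * a) • v = v := by
  have h2 : ∀ u : V, u * u = 1 := fun u => by
    have := e.exp u
    rwa [e.p_eq_two, sq] at this
  have has : a * s = s * a := d.comm g k hgk a ha s hs
  have hconjA : ∀ {x : H}, x ∈ cj T g → (a * s)⁻¹ * x * (a * s) = a⁻¹ * x * a := by
    intro x hx
    have h3 : a⁻¹ * x * a ∈ cj T g := mul_mem (mul_mem (inv_mem ha) hx) ha
    have h4 := d.comm g k hgk _ h3 s hs
    calc (a * s)⁻¹ * x * (a * s) = s⁻¹ * (a⁻¹ * x * a * s) := by group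
      _ = s⁻¹ * (s * (a⁻¹ * x * a)) := by rw [h4]
      _ = a⁻¹ * x * a := inv_mul_cancel_left _ _
  rw [Subgroup.mem_inf]
  refine ⟨fun ⟨hx, hxe⟩ => ?_, fun ⟨hx, h3, h4⟩ => ⟨hx, ?_⟩⟩
  swap
  · rw [mem_stabilizer_iff, smul_mul', h3]
    congr 1
    rw [← hconjA hx, mul_smul, mul_smul, inv_smul_eq_iff] at h4
    exact h4
  set u := x • v * v with hu
  have hu' : u = x • ((a * s) • v) * (a * s) • v := by
    rw [mem_stabilizer_iff, smul_mul'] at hxe
    have h5 : x • v * x • ((a * s) • v) * (v * (a * s) • v) = 1 := by rw [hxe, h2]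
    rw [mul_mul_mul_comm] at h5
    calc u = u * (x • ((a * s) • v) * (a * s) • v * (x • ((a * s) • v) * (a * s) • v)) := by
          rw [h2, mul_one]
      _ = _ := by rw [← mul_assoc, hu, h5, one_mul]
  have hu1 : u = 1 := by
    by_contra hne
    have hB1 : cj T k ⊓ stabilizer H v ≤ cj T k ⊓ stabilizer H u := by
      intro y hy
      refine Subgroup.mem_inf.mpr ⟨hy.1, ?_⟩
      rw [mem_stabilizer_iff, hu, smul_mul', mem_stabilizer_iff.mp hy.2, ← mul_smul,
        ← d.comm g k hgk x hx y hy.1, mul_smul, mem_stabilizer_iff.mp hy.2]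
    have hcard : Nat.card (cj T k ⊓ stabilizer H u : Subgroup H) ≤
        Nat.card (cj T k ⊓ stabilizer H v : Subgroup H) := by
      rw [e.card_inf_eq d hne, e.card_inf_eq d hv]
      exact hmax u hne
    have heq := Subgroup.eq_of_le_of_card_ge hB1 hcard
    refine hs' (e.self_normalizing d hv h0 hs fun y hy => ?_)
    rw [heq]
    refine Subgroup.mem_inf.mpr ⟨mul_mem (mul_mem hs hy.1) (inv_mem hs), ?_⟩
    have h6 : (s * y * s⁻¹) • ((a * s) • v) = (a * s) • v := by
      rw [← mul_smul]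
      have h7 : s * y * s⁻¹ * (a * s) = a * s * y := by
        rw [show a * s * y = a * (s * y * s⁻¹) * s by group,
          d.comm g k hgk a ha _ (mul_mem (mul_mem hs hy.1) (inv_mem hs))]
        group
      rw [h7, mul_smul, mem_stabilizer_iff.mp hy.2]
    rw [mem_stabilizer_iff, hu', smul_mul', h6, ← mul_smul,
      ← d.comm g k hgk x hx _ (mul_mem (mul_mem hs hy.1) (inv_mem hs)), mul_smul, h6]
  have h8 : x • v = v := mul_right_cancel ((hu.symm.trans hu1).trans (h2 v).symm)
  refine ⟨hx, h8, ?_⟩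
  have h9 : x • ((a * s) • v) = (a * s) • v :=
    mul_right_cancel ((hu'.symm.trans hu1).trans (h2 _).symm)
  rw [← hconjA hx, mul_smul, mul_smul, inv_smul_eq_iff]
  exact h9

/-- The socle is simple. -/
theorem AffEP.socle_simple (e : AffEP H V p) (d : SimpleConjugates M T) : T = M := by
  by_contra hTM
  obtain ⟨g, hg⟩ : ∃ g, cj T 1 ≠ cj T g := by
    by_contra hall
    push_neg at hall
    refine hTM ?_
    rw [← d.sup]
    refine le_antisymm (le_iSup_of_le 1 (cj_one T).ge) (iSup_le fun g => ?_)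
    rw [← hall g, cj_one]
  haveI := d.simple
  haveI : Finite V := inferInstance
  -- an involution of `T` and its fixed vector
  obtain ⟨s₀, hs₀, u₀, hu₀, hs₀2, hu₀2, hsu⟩ := exists_noncommuting_involutions d.simple d.nab
  have hs₀1 : s₀ ≠ 1 := fun h => hsu (by rw [h, one_mul, mul_one])
  have hos₀ : orderOf s₀ = 2 := orderOf_eq_prime (by rw [sq, hs₀2]) hs₀1
  obtain ⟨w₀, hw₀, hw₀'⟩ := e.exists_fixed hos₀
  obtain ⟨v, hv, hmax'⟩ := Set.exists_max_image {u : V | u ≠ 1}
    (fun u => Nat.card (T ⊓ stabilizer H u : Subgroup H)) (Set.toFinite _) ⟨w₀, hw₀⟩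
  have hmax : ∀ u : V, u ≠ 1 →
      Nat.card (T ⊓ stabilizer H u : Subgroup H) ≤ Nat.card (T ⊓ stabilizer H v : Subgroup H) :=
    hmax'
  set R : Subgroup H := T ⊓ stabilizer H v with hR
  have hR0 : R ≠ ⊥ := by
    intro h
    have h1 := hmax w₀ hw₀
    rw [h, Subgroup.card_bot] at h1
    have h2 : s₀ ∈ T ⊓ stabilizer H w₀ := Subgroup.mem_inf.mpr ⟨hs₀, hw₀'⟩
    rw [Subgroup.eq_bot_of_card_le _ h1, Subgroup.mem_bot] at h2
    exact hs₀1 h2
  have hne : ∀ k, cj T k ⊓ stabilizer H v ≠ ⊥ := by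
    intro k h
    have h1 := e.card_inf_eq d hv k
    rw [h, Subgroup.card_bot] at h1
    exact hR0 (Subgroup.eq_bot_of_card_eq _ h1.symm)
  have hT1 : cj T 1 = T := cj_one T
  have hnle : ∀ k, ¬ cj T k ≤ stabilizer H v := by
    intro k hk
    have hall : ∀ j, cj T j ≤ stabilizer H v := by
      intro j
      have h1 : Nat.card (cj T j ⊓ stabilizer H v : Subgroup H) = Nat.card (cj T j) := by
        rw [e.card_inf_eq d hv, ← e.card_inf_eq d hv k, inf_eq_left.mpr hk, card_cj, card_cj]
      exact (Subgroup.eq_of_le_of_card_ge (H := cj T j ⊓ stabilizer H v) inf_le_left h1.ge).ge.trans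
        inf_le_right
    refine d.ne_bot 1 (le_bot_iff.mp ((d.cj_le 1).trans (le_of_eq ?_)))
    exact (e.cfm v hv).core M d.normal (d.sup ▸ iSup_le hall)
  -- an involution of the other factor moving `v`
  obtain ⟨s, hs, hs2, hsv⟩ : ∃ s ∈ cj T g, s * s = 1 ∧ s • v ≠ v := by
    by_contra hall
    push_neg at hall
    haveI := d.simple_cj g
    let S : Set (cj T g) := {a | a * a = 1}
    have hn : (Subgroup.closure S).Normal := by
      refine ⟨fun a ha k => ?_⟩
      have h1 : (Subgroup.closure S).map (MulAut.conj k).toMonoidHom ≤ Subgroup.closure S := by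
        rw [MonoidHom.map_closure, Subgroup.closure_le]
        rintro _ ⟨b, hb, rfl⟩
        refine Subgroup.subset_closure ?_
        show (k * b * k⁻¹) * (k * b * k⁻¹) = 1
        rw [show (k * b * k⁻¹) * (k * b * k⁻¹) = k * (b * b) * k⁻¹ by group, hb]
        group
      exact h1 ⟨a, ha, rfl⟩
    obtain ⟨s', hs', u', hu', hs'2, -, hsu'⟩ :=
      exists_noncommuting_involutions (d.simple_cj g) (d.nab_cj g)
    have htop : Subgroup.closure S = ⊤ := hn.eq_bot_or_eq_top.resolve_left fun hb => by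
      have h1 : (⟨s', hs'⟩ : cj T g) ∈ Subgroup.closure S :=
        Subgroup.subset_closure (Subtype.ext hs'2)
      rw [hb, Subgroup.mem_bot] at h1
      have h2 : s' = 1 := congrArg Subtype.val h1
      exact hsu' (by rw [h2, one_mul, mul_one])
    refine hnle g fun y hy => ?_
    have h1 : (⟨y, hy⟩ : cj T g) ∈ Subgroup.closure S := htop ▸ Subgroup.mem_top _
    have h2 : Subgroup.closure S ≤ (stabilizer H v).comap (cj T g).subtype :=
      (Subgroup.closure_le _).mpr fun a ha => hall a a.2 (congrArg Subtype.val ha)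
    exact h2 h1
  have hsinv : s⁻¹ = s := inv_eq_of_mul_eq_one_right hs2
  -- distinct conjugates of `R` in `T` meet trivially
  have hti : ∀ a ∈ T, a • v ≠ v → ∀ x ∈ T, x • v = v → (a⁻¹ * x * a) • v = v → x = 1 := by
    intro a ha hav x hx hxv hxa
    have ha' : a ∈ cj T 1 := by rw [hT1]; exact ha
    have hcomm : a * s = s * a := d.comm 1 g hg a ha' s hs
    set w := v * (a * s) • v with hw
    have hw1 : w ≠ 1 := by
      intro h
      have h2 : (a * s) • v = v := by
        have h3 : v * v = 1 := by have := e.exp v; rwa [e.p_eq_two, sq] at this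
        exact mul_left_cancel (h.trans h3.symm)
      refine hav (e.self_normalizing d hv (hne 1) ha' fun y hy => ?_)
      refine Subgroup.mem_inf.mpr ⟨mul_mem (mul_mem ha' hy.1) (inv_mem ha'), ?_⟩
      have h5 : a * y * a⁻¹ = a * s * y * (a * s)⁻¹ := by
        rw [show a * s * y = a * (s * y) by group, ← d.comm 1 g hg y hy.1 s hs]; group
      rw [h5]
      exact mul_mem (mul_mem h2 hy.2) (inv_mem (mem_stabilizer_iff.mpr h2))
    have hA := fun y => e.inter_of_translate d hv hmax hg (hne g) ha' hs hsv (x := y)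
    have hB := fun y => e.inter_of_translate d hv hmax (Ne.symm hg) (hne 1) hs ha' hav (x := y)
    rw [← hw] at hA
    rw [← hcomm, ← hw] at hB
    by_contra hx1
    have hB0 : cj T g ⊓ stabilizer H w ≠ ⊥ := by
      intro h
      have h1 := e.card_inf_eq d hw1 g
      rw [h, Subgroup.card_bot] at h1
      have h2 : x ∈ T ⊓ stabilizer H w := by
        have := (hA x).mpr ⟨by rw [hT1]; exact hx, hxv, hxa⟩
        rwa [hT1] at this
      rw [Subgroup.eq_bot_of_card_eq _ h1.symm, Subgroup.mem_bot] at h2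
      exact hx1 h2
    have hsw : s • w = w := e.self_normalizing d hw1 hB0 hs fun y hy => by
      obtain ⟨h1, h2, h3⟩ := (hB y).mp hy
      refine (hB _).mpr ⟨mul_mem (mul_mem hs h1) (inv_mem hs), ?_, ?_⟩
      · rwa [hsinv] at h3 ⊢
      · rwa [show s⁻¹ * (s * y * s⁻¹) * s = y by group]
    exact hsv ((hB s).mp (Subgroup.mem_inf.mpr ⟨hs, hsw⟩)).2.1
  -- Frobenius
  let R' : Subgroup T := (stabilizer H v).comap T.subtype
  have hR' : Cfsg.IsFrobeniusComplement R' := by
    refine ⟨fun h => hR0 ?_, fun h => hnle 1 ?_, fun a ha => ?_⟩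
    · rw [Subgroup.eq_bot_iff_forall]
      intro y hy
      have h1 : (⟨y, hy.1⟩ : T) ∈ R' := hy.2
      rw [h, Subgroup.mem_bot] at h1
      exact congrArg Subtype.val h1
    · rw [hT1]
      exact fun y hy => (h ▸ Subgroup.mem_top _ : (⟨y, hy⟩ : T) ∈ R')
    · rw [Subgroup.eq_bot_iff_forall]
      rintro ⟨x, hx⟩ ⟨hx1, hx2⟩
      replace hx2 := Subgroup.mem_pointwise_smul_iff_inv_smul_mem.mp hx2
      refine Subtype.ext (hti a a.2 ha x hx hx1 ?_)
      have h3 := mem_stabilizer_iff.mp (Subgroup.mem_comap.mp hx2)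
      simpa [MulAut.smul_def, Subgroup.coe_subtype] using h3
  obtain ⟨N, -, hN, hNc⟩ := Cfsg.Agent.S0035.result R' hR'
  rcases hN.eq_bot_or_eq_top with h | h
  · subst h
    exact hR'.2.1 (Subgroup.isComplement'_bot_left.mp hNc)
  · subst h
    exact hR'.1 (Subgroup.isComplement'_top_left.mp hNc)

/-- A group with core-free maximal vector stabilizers is almost simple. -/
theorem AffEP.almostSimple (e : AffEP H V p) :
    ∃ T : Subgroup H, T.Normal ∧ IsSimpleGroup T ∧ ¬ IsMulCommutative T ∧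
      Subgroup.centralizer (T : Set H) = ⊥ := by
  haveI : Finite (Subgroup H) := Finite.of_injective (fun K => (K : Set H)) SetLike.coe_injective
  have htop : (⊤ : Subgroup H) ≠ ⊥ := fun h => e.insol
    (Group.isSolvable_of_comm fun a b => by
      rw [Subgroup.mem_bot.mp (h ▸ Subgroup.mem_top a : a ∈ (⊥ : Subgroup H)),
        Subgroup.mem_bot.mp (h ▸ Subgroup.mem_top b : b ∈ (⊥ : Subgroup H))])
  obtain ⟨M, -, ⟨hMn, hM0⟩, hMmin⟩ :=
    (Set.toFinite {R : Subgroup H | R.Normal ∧ R ≠ ⊥}).exists_le_minimal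
      (show (⊤ : Subgroup H) ∈ _ from ⟨inferInstance, htop⟩)
  haveI := hMn
  have hmin : ∀ R : Subgroup H, R.Normal → R ≠ ⊥ → R ≤ M → R = M := fun R h1 h2 h3 =>
    le_antisymm h3 (hMmin ⟨h1, h2⟩ h3)
  have hab : ¬ IsMulCommutative M := fun h => hM0 (@AffEP.abelian_eq_bot _ _ _ _ _ _ _ _ e M hMn h)
  obtain ⟨T, d⟩ := exists_simpleConjugates hmin hab
  obtain rfl := e.socle_simple d
  exact ⟨T, hMn, d.simple, d.nab, e.centralizer_eq_bot hMn hM0⟩

end

end CfsgLib.ExtPrim
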