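import Mathlib
import Cfsg.Prelude.Def_Solvable
import Cfsg.Agent.Lib.Fitting.Basic
import Cfsg.Agent.Lib.BG.FittingDerived
import Cfsg.Agent.Lib.PSolvable.Omega
import Cfsg.Agent.S3494

/-!
Groups with a core-free maximal subgroup: centre, cores, Fitting subgroup; the point stabilizers
of extremely primitive groups as examples.
-/

set_option autoImplicit false
set_option linter.style.haveILetI false

open scoped commutatorElement

namespace CfsgLib.ExtPrim

/-- A maximal subgroup containing no non-trivial normal subgroup. -/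
structure CoreFreeMax {H : Type*} [Group H] (K : Subgroup H) : Prop where
  coatom : IsCoatom K
  core : ∀ D : Subgroup H, D.Normal → D ≤ K → D = ⊥

section

variable {H : Type*} [Group H] {K : Subgroup H}

theorem CoreFreeMax.sup_eq_top (h : CoreFreeMax K) {D : Subgroup H} (hn : D.Normal) (hD : D ≠ ⊥) :
    D ⊔ K = ⊤ := by
  rcases h.coatom.le_iff.mp (le_sup_right : K ≤ D ⊔ K) with e | e
  · exact e
  · exact absurd (h.core D hn (le_sup_left.trans e.le)) hD

theorem CoreFreeMax.center_eq_bot [Finite H] (h : CoreFreeMax K) (hp : ¬ (Nat.card H).Prime) :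
    Subgroup.center H = ⊥ := by
  by_contra hZ
  have htop := h.sup_eq_top (inferInstance : (Subgroup.center H).Normal) hZ
  have hKn : K.Normal := by
    rw [← Subgroup.normalizer_eq_top_iff, eq_top_iff, ← htop]
    refine sup_le (fun z hz => Subgroup.mem_normalizer_iff.mpr fun x => ?_) Subgroup.le_normalizer
    rw [← Subgroup.mem_center_iff.mp hz x, mul_inv_cancel_right]
  have hK : K = ⊥ := h.core K hKn le_rfl
  have hne : Nontrivial H := by
    by_contra hc
    rw [not_nontrivial_iff_subsingleton] at hc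
    exact hZ (Subsingleton.elim _ _)
  obtain ⟨q, hq, hqd⟩ := Nat.exists_prime_and_dvd (Finite.one_lt_card (α := H)).ne'
  haveI := Fact.mk hq
  obtain ⟨x, hx⟩ := exists_prime_orderOf_dvd_card' q hqd
  have hxt : Subgroup.zpowers x = ⊤ := by
    refine h.coatom.2 _ ?_
    rw [hK, bot_lt_iff_ne_bot, Ne, Subgroup.zpowers_eq_bot]
    rintro rfl
    rw [orderOf_one] at hx
    exact hq.ne_one hx.symm
  apply hp
  have hc : Nat.card H = q := by rw [← Subgroup.card_top, ← hxt, Nat.card_zpowers, hx]
  rwa [hc]

theorem CoreFreeMax.abelian_inf (h : CoreFreeMax K) {A : Subgroup H} (hn : A.Normal)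
    [IsMulCommutative A] (hA : A ≠ ⊥) : A ⊓ K = ⊥ := by
  refine h.core _ ?_ inf_le_right
  rw [← Subgroup.normalizer_eq_top_iff, eq_top_iff, ← h.sup_eq_top hn hA]
  refine sup_le (fun a ha => Subgroup.mem_normalizer_iff.mpr fun x => ?_) (fun k hk => ?_)
  · have hc : ∀ y ∈ A, a * y * a⁻¹ = y := fun y hy => by
      rw [show a * y = y * a from congrArg Subtype.val (mul_comm' (⟨a, ha⟩ : A) ⟨y, hy⟩),
        mul_inv_cancel_right]
    refine ⟨fun hx => by rw [hc x hx.1]; exact hx, fun hx => ?_⟩
    have hxA : x ∈ A := by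
      have := hn.conj_mem _ hx.1 a⁻¹
      rwa [inv_inv, show a⁻¹ * (a * x * a⁻¹) * a = x by group] at this
    rw [hc x hxA] at hx
    exact hx
  · rw [Subgroup.mem_normalizer_iff]
    intro x
    exact and_congr ⟨fun hx => hn.conj_mem x hx k, fun hx => by
        have := hn.conj_mem _ hx k⁻¹
        rwa [inv_inv, show k⁻¹ * (k * x * k⁻¹) * k = x by group] at this⟩
      ((Subgroup.mem_normalizer_iff.mp (Subgroup.le_normalizer hk)) x)

theorem CoreFreeMax.centralizer_eq (h : CoreFreeMax K) {A : Subgroup H} (hn : A.Normal)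
    [IsMulCommutative A] (hA : A ≠ ⊥) : Subgroup.centralizer (A : Set H) = A := by
  haveI := hn
  have hCn : (Subgroup.centralizer (A : Set H)).Normal := inferInstance
  have hC : Subgroup.centralizer (A : Set H) ⊓ K = ⊥ := by
    refine h.core _ ?_ inf_le_right
    rw [← Subgroup.normalizer_eq_top_iff, eq_top_iff, ← h.sup_eq_top hn hA]
    refine sup_le (fun a ha => Subgroup.mem_normalizer_iff.mpr fun x => ?_) (fun k hk => ?_)
    · have hc : ∀ y ∈ Subgroup.centralizer (A : Set H), a * y * a⁻¹ = y := fun y hy => by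
        rw [Subgroup.mem_centralizer_iff.mp hy a ha, mul_inv_cancel_right]
      refine ⟨fun hx => by rw [hc x hx.1]; exact hx, fun hx => ?_⟩
      have hxC : x ∈ Subgroup.centralizer (A : Set H) := by
        have := hCn.conj_mem _ hx.1 a⁻¹
        rwa [inv_inv, show a⁻¹ * (a * x * a⁻¹) * a = x by group] at this
      rw [hc x hxC] at hx
      exact hx
    · rw [Subgroup.mem_normalizer_iff]
      intro x
      exact and_congr ⟨fun hx => hCn.conj_mem x hx k, fun hx => by
          have := hCn.conj_mem _ hx k⁻¹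
          rwa [inv_inv, show k⁻¹ * (k * x * k⁻¹) * k = x by group] at this⟩
        ((Subgroup.mem_normalizer_iff.mp (Subgroup.le_normalizer hk)) x)
  have hAC : A ≤ Subgroup.centralizer (A : Set H) := fun a ha =>
    Subgroup.mem_centralizer_iff.mpr fun b hb =>
      congrArg Subtype.val (mul_comm' (⟨b, hb⟩ : A) ⟨a, ha⟩)
  refine le_antisymm (fun c hc => ?_) hAC
  have hmem : c ∈ A ⊔ K := by rw [h.sup_eq_top hn hA]; trivial
  obtain ⟨a, ha, k, hk, rfl⟩ := Subgroup.mem_sup_of_normal_left.mp hmem
  have hk1 : k = 1 := by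
    have : k ∈ Subgroup.centralizer (A : Set H) ⊓ K := ⟨by
      simpa using mul_mem (inv_mem (hAC ha)) hc, hk⟩
    rwa [hC] at this
  rw [hk1, mul_one]
  exact ha

/-- The cores of a group with a core-free maximal subgroup are elementary abelian. -/
theorem CoreFreeMax.pCore_elementary [Finite H] (h : CoreFreeMax K) (p : ℕ) [Fact p.Prime] :
    IsMulCommutative (Cfsg.pCore p H) ∧ ∀ x ∈ Cfsg.pCore p H, x ^ p = 1 := by
  have hPn := Fitting.pCore_normal (G := H) p
  have hPp := Fitting.pCore_isPGroup (G := H) p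
  generalize hP : Cfsg.pCore p H = P at hPn hPp ⊢
  haveI := hPn
  set Φ := (frattini P).map P.subtype with hΦ
  have hΦn : Φ.Normal := by
    haveI : (frattini P).Characteristic := frattini_characteristic
    exact ConjAct.normal_of_characteristic_of_normal
  have hΦbot : Φ = ⊥ := by
    by_contra hne
    have htop := h.sup_eq_top hΦn hne
    have hPK : K.subgroupOf P = ⊤ := by
      refine frattini_nongenerating ?_
      rw [eq_top_iff]
      rintro ⟨x, hx⟩ -
      have hmem : x ∈ Φ ⊔ K := by rw [htop]; trivial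
      haveI := hΦn
      obtain ⟨f, hf, k, hk, rfl⟩ := Subgroup.mem_sup_of_normal_left.mp hmem
      obtain ⟨f', hf', rfl⟩ := hf
      have hkP : k ∈ P := by simpa using mul_mem (inv_mem f'.2) hx
      have : (⟨(f' : H) * k, hx⟩ : P) = f' * ⟨k, hkP⟩ := rfl
      show (⟨(f' : H) * k, hx⟩ : P) ∈ _
      rw [this]
      exact mul_mem (Subgroup.mem_sup_right hf') (Subgroup.mem_sup_left (by exact hk))
    exact hne (h.core Φ hΦn ((Subgroup.map_subtype_le _).trans (Subgroup.subgroupOf_eq_top.mp hPK)))
  have hfr : frattini P = ⊥ := (Subgroup.map_eq_bot_iff_of_injective _ P.subtype_injective).mp hΦbot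
  obtain ⟨hc, hpow⟩ := PSolvable.commutator_le_frattini hPp
  rw [hfr] at hc
  simp only [hfr, Subgroup.mem_bot] at hpow
  refine ⟨⟨⟨fun a b => ?_⟩⟩, fun x hx => congrArg Subtype.val (hpow ⟨x, hx⟩)⟩
  have : ⁅a, b⁆ ∈ (⊥ : Subgroup P) := hc (Subgroup.commutator_mem_commutator (Subgroup.mem_top a) (Subgroup.mem_top b))
  exact commutatorElement_eq_one_iff_mul_comm.mp this

/-- The Fitting subgroup of a group with a core-free maximal subgroup is elementary abelian. -/
theorem CoreFreeMax.fitting_elementary [Finite H] (h : CoreFreeMax K) :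
    IsMulCommutative (Cfsg.fittingSubgroup H) ∧
      ∃ p e : ℕ, p.Prime ∧ Nat.card (Cfsg.fittingSubgroup H) = p ^ e ∧
        ∀ x ∈ Cfsg.fittingSubgroup H, x ^ p = 1 := by
  by_cases hF : Cfsg.fittingSubgroup H = ⊥
  · rw [hF]
    exact ⟨⟨⟨fun a b => Subsingleton.elim _ _⟩⟩, 2, 0, Nat.prime_two, by simp, fun x hx => by
      rw [Subgroup.mem_bot] at hx
      rw [hx, one_pow]⟩
  obtain ⟨r, hr, hne⟩ : ∃ r : ℕ, r.Prime ∧ Cfsg.pCore r H ≠ ⊥ := by
    by_contra hall
    push Not at hall
    exact hF (eq_bot_iff.mpr (BG.fitting_le_of_pCore_le fun r hr => (hall r hr).le))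
  haveI := Fact.mk hr
  obtain ⟨hc, hexp⟩ := h.pCore_elementary r
  haveI := hc
  have hcen := h.centralizer_eq (Fitting.pCore_normal (G := H) r) hne
  have hFP : Cfsg.fittingSubgroup H = Cfsg.pCore r H := by
    refine le_antisymm (BG.fitting_le_of_pCore_le fun s hs => ?_) (Fitting.pCore_le_fittingSubgroup r)
    by_cases hsr : s = r
    · rw [hsr]
    haveI := Fact.mk hs
    have hdis : Disjoint (Cfsg.pCore s H) (Cfsg.pCore r H) :=
      IsPGroup.disjoint_of_ne s r hsr _ _ (Fitting.pCore_isPGroup s) (Fitting.pCore_isPGroup r)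
    refine le_trans (fun x hx => Subgroup.mem_centralizer_iff.mpr fun y hy => ?_) hcen.le
    exact (Subgroup.commute_of_normal_of_disjoint _ _ (Fitting.pCore_normal s)
      (Fitting.pCore_normal r) hdis x y hx hy).symm.eq
  obtain ⟨e, he⟩ := IsPGroup.iff_card.mp (Fitting.pCore_isPGroup (G := H) r)
  rw [hFP]
  exact ⟨hc, r, e, hr, he, hexp⟩

end

section

variable {p : ℕ} [hp : Fact p.Prime]

/-- A group of additive automorphisms of a space of dimension `e` is a matrix group. -/
theorem exists_hom_GL_of_additive {V : Type*} [AddCommGroup V] [Finite V] [Module (ZMod p) V]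
    {M : Type*} [Group M] {e : ℕ} (hcard : Nat.card V = p ^ e) (f : M → V →+ V)
    (h1 : ∀ v, f 1 v = v) (hmul : ∀ a c v, f (a * c) v = f a (f c v)) :
    ∃ φ : M →* GL (Fin e) (ZMod p), ∀ a c, φ a = φ c → ∀ v, f a v = f c v := by
  haveI : Module.Finite (ZMod p) V := Module.Finite.of_finite
  have hrank : Module.finrank (ZMod p) V = e := by
    have h2 : Nat.card V = Nat.card (ZMod p) ^ Module.finrank (ZMod p) V :=
      Module.natCard_eq_pow_finrank
    rw [Nat.card_zmod, hcard] at h2
    exact ((Nat.pow_right_injective hp.out.two_le) h2).symm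
  let b := Module.finBasisOfFinrankEq (ZMod p) V hrank
  let L : M →* Module.End (ZMod p) V :=
    { toFun := fun a => (f a).toZModLinearMap p
      map_one' := LinearMap.ext fun x => h1 x
      map_mul' := fun a c => LinearMap.ext fun x => hmul a c x }
  let φ : M →* GL (Fin e) (ZMod p) :=
    (Units.mapEquiv (algEquivMatrix b).toMulEquiv).toMonoidHom.comp L.toHomUnits
  refine ⟨φ, fun a c hac v => ?_⟩
  have h3 : L.toHomUnits a = L.toHomUnits c :=
    (Units.mapEquiv (algEquivMatrix b).toMulEquiv).injective hac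
  have h4 : L a = L c := congrArg Units.val h3
  exact LinearMap.congr_fun h4 v

/-- The automorphisms of an elementary abelian group of order `p ^ e` are matrices. -/
theorem exists_mulAut_hom_GL_comm {A : Type*} [CommGroup A] [Finite A] {e : ℕ}
    (hexp : ∀ x : A, x ^ p = 1) (hcard : Nat.card A = p ^ e) :
    ∃ φ : MulAut A →* GL (Fin e) (ZMod p), Function.Injective φ := by
  haveI : Finite (Additive A) := inferInstanceAs (Finite A)
  obtain ⟨φ, hφ⟩ := @exists_hom_GL_of_additive p hp (Additive A) _ _
    (AddCommGroup.zmodModule (n := p) fun x => by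
      show Additive.ofMul (x.toMul ^ p) = 0
      rw [hexp]; rfl) (MulAut A) _ e hcard (fun a => MonoidHom.toAdditive a.toMonoidHom)
    (fun v => rfl) (fun a c v => rfl)
  exact ⟨φ, fun a c hac =>
    MulEquiv.ext fun x => Additive.ofMul.injective (hφ a c hac (Additive.ofMul x))⟩

/-- As before, for a commutative group. -/
theorem exists_mulAut_hom_GL {A : Type*} [Group A] [Finite A] (hA : IsMulCommutative A) {e : ℕ}
    (hexp : ∀ x : A, x ^ p = 1) (hcard : Nat.card A = p ^ e) :
    ∃ φ : MulAut A →* GL (Fin e) (ZMod p), Function.Injective φ :=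
  @exists_mulAut_hom_GL_comm p hp A
    { (inferInstance : Group A) with mul_comm := fun a b => mul_comm' a b } _ e hexp hcard

end

section

open MulAction

variable {G : Type*} [Group G] {Ω : Type*} [MulAction G Ω]

theorem stabilizer_ne_bot [IsPretransitive G Ω] {α : Ω} (hα : stabilizer G α ≠ ⊥) (β : Ω) :
    stabilizer G β ≠ ⊥ := by
  obtain ⟨g, rfl⟩ := exists_smul_eq G α β
  rw [stabilizer_smul_eq_stabilizer_map_conj]
  exact fun e => hα ((Subgroup.map_eq_bot_iff_of_injective _ (MulAut.conj g).injective).mp e)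

/-- In an extremely primitive group every two-point stabilizer is maximal and core-free in the
point stabilizer. -/
theorem coreFreeMax_suborbit [Finite G] [Fintype Ω] [FaithfulSMul G Ω]
    (hprim : IsPreprimitive G Ω)
    (hep : ∀ α ω : Ω, IsPreprimitive (stabilizer G α) (orbit (stabilizer G α) ω))
    {α : Ω} (hH : stabilizer G α ≠ ⊥) {y : Ω} (hy : y ≠ α) :
    CoreFreeMax (stabilizer (stabilizer G α) y) := by
  haveI := hprim
  have hcore : ∀ D : Subgroup (stabilizer G α), D.Normal → D ≤ stabilizer (stabilizer G α) y →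
      D = ⊥ := by
    intro D hD hle
    haveI := hD
    exact Cfsg.Agent.S3494.mannAux_main (stabilizer_ne_bot hH) hep α y hy D fun k hk => hle hk
  refine ⟨?_, hcore⟩
  haveI := hep α y
  haveI : Nontrivial (orbit (stabilizer G α) y) := by
    by_contra hc
    rw [not_nontrivial_iff_subsingleton] at hc
    have htop := hcore ⊤ inferInstance fun k _ => mem_stabilizer_iff.mpr (congrArg Subtype.val
      (Subsingleton.elim (k • (⟨y, mem_orbit_self y⟩ : orbit (stabilizer G α) y))
        ⟨y, mem_orbit_self y⟩))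
    exact hH (eq_bot_iff.mpr fun g hg => by
      have : (⟨g, hg⟩ : stabilizer G α) ∈ (⊥ : Subgroup (stabilizer G α)) := htop ▸ Subgroup.mem_top _
      exact congrArg Subtype.val (Subgroup.mem_bot.mp this))
  have heq : stabilizer (stabilizer G α) (⟨y, mem_orbit_self y⟩ : orbit (stabilizer G α) y) =
      stabilizer (stabilizer G α) y := by
    ext k
    exact ⟨fun h => congrArg Subtype.val h, fun h => Subtype.ext h⟩
  rw [← heq]
  exact IsPreprimitive.isCoatom_stabilizer_of_isPreprimitive (G := stabilizer G α) _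

/-- A subgroup without fixed points off a common fixed point has order dividing the number of
other points. -/
theorem card_dvd_of_free [Finite Ω] (α : Ω) (A : Subgroup G) (hfix : ∀ a ∈ A, a • α = α)
    (hfree : ∀ y : Ω, y ≠ α → ∀ a ∈ A, a • y = y → a = 1) :
    Nat.card A ∣ Nat.card Ω - 1 := by
  classical
  let S : SubMulAction A Ω :=
    { carrier := {y | y ≠ α}
      smul_mem' := fun a y hy h => hy (by
        have h2 := congrArg ((a⁻¹ : A) • ·) (show a • y = α from h)
        simp only [inv_smul_smul] at h2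
        rw [h2]; exact hfix _ (inv_mem a.2)) }
  have e := MulAction.selfEquivOrbitsQuotientProd (G := A) (X := S) fun s => by
    rw [eq_bot_iff]
    intro a ha
    exact Subtype.ext (hfree s.1 s.2 a a.2 (congrArg Subtype.val ha))
  have h1 : Nat.card S = Nat.card Ω - 1 := by
    haveI := Fintype.ofFinite Ω
    show Nat.card {y : Ω // y ≠ α} = _
    rw [Nat.card_eq_fintype_card, Nat.card_eq_fintype_card, Fintype.card_subtype_compl,
      Fintype.card_subtype_eq]
  rw [← h1, Nat.card_congr e, Nat.card_prod]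
  exact dvd_mul_left _ _

end

end CfsgLib.ExtPrim
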